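import Cfsg.Agent.Lib.SuzRecog.ActData
import Cfsg.Agent.Lib.Sporadic.SuzG2
import Cfsg.Agent.Lib.Chev.PerfectCover
import Cfsg.Agent.Lib.G2FourJTwo.Main

/-! The action of `G₂(4)` on 416 points inside the presented Suzuki group. -/

set_option autoImplicit false
set_option maxRecDepth 8000

namespace CfsgLib.SuzRecog

open CfsgLib.CosetEnum

/-- Row check. -/
noncomputable def rowOK416 (i : ℕ) : Bool :=
  strict (Data.embT.get 20 i) fun e => Nat.blt e 1782 && Nat.beq (Data.posT.get 20 e) i &&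
    Nat.beq (Suz.lab.get 20 e) 2 &&
    allLin (fun k => strict (act Data.gT k i) fun m => Nat.blt m 416 &&
      Nat.beq (act Suz.subTable k e) (Data.embT.get 20 m)) 6 0

theorem row416_ok : allFrom rowOK416 416 0 = true := by decide +kernel

theorem onto416_ok : allFrom (fun k => !(Nat.beq (Suz.lab.get 20 k) 2) ||
    (Nat.blt (Data.posT.get 20 k) 416 && Nat.beq (Data.embT.get 20 (Data.posT.get 20 k)) k)) 1782 0 = true := by
  decide +kernel

theorem row416_spec {i : ℕ} (hi : i < 416) :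
    Data.embT.get 20 i < 1782 ∧ Data.posT.get 20 (Data.embT.get 20 i) = i ∧
      Suz.lab.get 20 (Data.embT.get 20 i) = 2 ∧ ∀ k < 6, act Data.gT k i < 416 ∧
        act Suz.subTable k (Data.embT.get 20 i) = Data.embT.get 20 (act Data.gT k i) := by
  have h := allFrom_spec _ _ _ row416_ok i (Nat.zero_le _) (by omega)
  unfold rowOK416 at h
  simp only [strict_eq, Bool.and_eq_true] at h
  refine ⟨Nat.le_of_ble_eq_true h.1.1.1, Nat.eq_of_beq_eq_true h.1.1.2, Nat.eq_of_beq_eq_true h.1.2,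
    fun k hk => ?_⟩
  have h' := allLin_spec _ _ _ h.2 k (Nat.zero_le _) (by omega)
  simp only [strict_eq, Bool.and_eq_true] at h'
  exact ⟨Nat.le_of_ble_eq_true h'.1, Nat.eq_of_beq_eq_true h'.2⟩

/-- A point of the suborbit. -/
noncomputable def emb (i : Fin 416) : Fin 1782 := ⟨Data.embT.get 20 i, (row416_spec i.2).1⟩

theorem lab_emb (i : Fin 416) : Suz.lab.get 20 (emb i : Fin 1782) = 2 := (row416_spec i.2).2.2.1

theorem emb_injective : Function.Injective emb := fun i k h =>
  Fin.ext (by rw [← (row416_spec i.2).2.1, ← (row416_spec k.2).2.1,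
    show Data.embT.get 20 i = Data.embT.get 20 k from congrArg Fin.val h])

theorem exists_emb {x : Fin 1782} (h : Suz.lab.get 20 x = 2) : ∃ i, emb i = x := by
  have h' := allFrom_spec _ _ _ onto416_ok x (Nat.zero_le _) (by omega)
  rw [h] at h'
  simp only [Nat.beq_refl, Bool.not_true, Bool.false_or, Bool.and_eq_true] at h'
  exact ⟨⟨_, Nat.le_of_ble_eq_true h'.1⟩, Fin.ext (Nat.eq_of_beq_eq_true h'.2)⟩

theorem lab_smul (z : Suz.H) (x : Fin 1782) : Suz.lab.get 20 (Suz.π (z : Cfsg.Spor.Suz) x : Fin 1782) =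
    Suz.lab.get 20 x :=
  label_invariant Suz.π Suz.H Suz.subTable Suz.sub_spec.2 Suz.lab Suz.orbPar Suz.root Suz.orbit_ok z z.2 x

/-- The image of a point. -/
noncomputable def omap (z : Suz.H) (i : Fin 416) : Fin 416 :=
  (exists_emb ((lab_smul z (emb i)).trans (lab_emb i))).choose

theorem omap_spec (z : Suz.H) (i : Fin 416) : emb (omap z i) = Suz.π (z : Cfsg.Spor.Suz) (emb i) :=
  (exists_emb ((lab_smul z (emb i)).trans (lab_emb i))).choose_spec

theorem omap_one (i : Fin 416) : omap 1 i = i := by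
  apply emb_injective
  rw [omap_spec, Subgroup.coe_one, map_one, Equiv.Perm.one_apply]

theorem omap_mul (y z : Suz.H) (i : Fin 416) : omap (y * z) i = omap y (omap z i) := by
  apply emb_injective
  rw [omap_spec, omap_spec, omap_spec, Subgroup.coe_mul, map_mul, Equiv.Perm.mul_apply]

/-- The representation on the suborbit. -/
noncomputable def σ : Suz.H →* Equiv.Perm (Fin 416) where
  toFun g :=
    { toFun := omap g
      invFun := omap g⁻¹
      left_inv := fun i => by rw [← omap_mul, inv_mul_cancel, omap_one]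
      right_inv := fun i => by rw [← omap_mul, mul_inv_cancel, omap_one] }
  map_one' := Equiv.ext fun i => omap_one i
  map_mul' g h := Equiv.ext fun i => omap_mul g h i

theorem σ_spec (z : Suz.H) (i : Fin 416) : emb (σ z i) = Suz.π (z : Cfsg.Spor.Suz) (emb i) := omap_spec z i

theorem exists_gen {k : ℕ} (hk : k < 6) :
    ∃ z : Suz.H, ∀ i : Fin 416, ((σ z i : Fin 416) : ℕ) = act Data.gT k i := by
  obtain ⟨y, hy, hyk⟩ := Suz.sub_spec.1 k hk
  refine ⟨⟨y, hy⟩, fun i => ?_⟩
  obtain ⟨h1, h2⟩ := (row416_spec i.2).2.2.2 k hk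
  have h3 : emb (σ ⟨y, hy⟩ i) = emb ⟨_, h1⟩ := by
    rw [σ_spec]; exact Fin.ext ((hyk (emb i)).trans h2)
  exact congrArg Fin.val (emb_injective h3)

theorem isSimple_H : IsSimpleGroup Suz.H := by
  obtain ⟨e⟩ := CfsgLib.SuzG2.equiv_G2
  have : IsSimpleGroup ↥(Cfsg.Lie.chevG2.group CfsgLib.Recog.GF4.K4) :=
    (CfsgLib.Chev.isSimple_group_of_cover Cfsg.Lie.chevG2 (by simp) fun _ =>
      ⟨(⟨(2 : Fin 4)⟩ : CfsgLib.Recog.GF4.K4), by decide, by decide⟩).1
  exact e.isSimpleGroup

theorem exists_emb_image (i : Fin 416) : ∃ z : Suz.H, σ z ⟨Data.base995, by decide⟩ = i := by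
  have h1 := CfsgLib.G2FourJTwo.H_orbit.1
  obtain ⟨w, hw, he⟩ := (Set.ext_iff.1 h1 (emb i)).2 (lab_emb i)
  refine ⟨⟨w, hw⟩, emb_injective ?_⟩
  rw [σ_spec, show emb ⟨Data.base995, by decide⟩ = CfsgLib.G2FourJTwo.basePt from Fin.ext (by decide +kernel)]
  exact he

theorem σ_injective : Function.Injective σ := by
  have := isSimple_H
  refine (MonoidHom.ker_eq_bot_iff σ).1 ((σ.normal_ker.eq_bot_or_eq_top).resolve_right fun htop => ?_)
  obtain ⟨z, hz⟩ := exists_emb_image ⟨Data.base995 + 1, by decide⟩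
  have h1 : σ z = 1 := MonoidHom.mem_ker.1 (by rw [htop]; exact Subgroup.mem_top z)
  rw [h1] at hz
  exact absurd (congrArg Fin.val hz) (by decide)

/-- `G₂(4)` on 416 points. -/
noncomputable abbrev Q : Subgroup (Equiv.Perm (Fin 416)) := σ.range

theorem card_Q : Nat.card Q = 251596800 := by
  rw [← Nat.card_congr (MonoidHom.ofInjective σ_injective).toEquiv, Suz.card_H]

end CfsgLib.SuzRecog
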