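import Cfsg.Agent.Lib.CosetEnum.Cert

/-! Generated: a base of the graph on 416 points. -/

set_option autoImplicit false
set_option linter.all false

namespace CfsgLib.SuzRecog.Data

open CfsgLib.CosetEnum

def autPts : List Nat := [279, 119, 12, 71, 161, 315, 37, 4]
def autSizes : List Nat := [416, 100, 36, 42, 12, 7, 18, 2]
def autInv : List (List Nat × List Nat × Nat) := [([12, 37, 4], [246, 252, 370, 378], 8), ([119, 12, 71], [1, 18, 26, 27, 54, 135, 214, 218, 292, 294, 295, 397], 4), ([161, 315, 37], [85, 185, 215, 266, 287, 415], 7), ([279, 315, 4], [17, 40, 161, 166, 231, 311], 8), ([12, 161, 315], [1, 166, 179, 181, 240, 295], 6), ([119, 161, 4], [147, 200, 207, 216, 240, 258, 260, 265, 287, 308, 317, 336], 8), ([119, 12, 37], [52, 81, 110, 351, 370, 388], 7)]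
noncomputable def autSort : Tr :=
 (.node 204
 (.node 102
 (.node 51
 (.leaf 0xb618006d16116013310c18b08819c08509516b0f314410619212c17715418514715c1990ef1961010650b800f06f1141980140241760c103b11a17c15d0e60190a519d19301503907502710b)
 (.leaf 0x3c14114204f03701d0731630a716615b0261750330c40f70cb08011306b0bd1680ac1590f413119e08913509d0c50ab05d14f0fb0e10980540d408c0630300dc16c0ad03514c07414a09611b))
 (.node 51
 (.leaf 0x12a1650760210a80ee17412302d17100e1731820ec0430cc14911e0860201550821300d507f0f114d0ce06612117b04a0f207b13811d11118a07016417d18f14e1971460e515613e08404b112)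
 (.leaf 0x16a02e04908b0bf0aa0b201010f15812d14b03a0a212e10e1290220c00181150d217f1670de1940681890400b705a09a07906c1521280fd18c0dd13f0c60c30d313a1250df16d0b919f08100d)))
 (.node 102
 (.node 51
 (.leaf 0xb018615316215e13210d00a0d916e19505010508d08f08310003f0cd0db18119a1690fc17a0f611618e14006918312206a11c13c11005e1430ea04e04c0c912b0f805305b06700910a01f178)
 (.leaf 0x3618d01b0f015019017918417205115f0e01571360a013911f0c816f1070cf13d07d04d0380f515a0e91910601700af1091021510460480050450fa19b0c70ae0ca08a0a903118818717e023))
 (.node 51
 (.leaf 0x620640fe12f07c06109707101c0170d70111370280910900720ed14512004102c0e80be0521480e703e0d10320440e307a00b05709e0c203d01305f0b402902b00201e0a412712408701a126)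
 (.leaf 0x10d60da0120b310405807e06e0340030b10bc0a305509f08e10305c0780160f90990d81340930060590ff05609b02f0e209c0eb0a60b50071180940421190d00080000920e402a1080ba0bb))))
noncomputable def autPos : Tr :=
 (.node 208
 (.node 104
 (.node 52
 (.leaf 0x5814710303c1780ca09014f13a16813b15700105a0000100ff0ba0950850cd13806015c12f1330080b815b18300401113e1941590c401508e0990001430f70cf16c17217d10c00018d13919716b)
 (.leaf 0xd007c01716303d16415f11413d0da0451850d10ad17c19114217a1890400d214c1280f30620d711a0d60670790c910d00010e10b14608a16f1500af0ed14913f06500d0bf00311906113103818e))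
 (.node 52
 (.leaf 0x1790ac18104115e03402717017e16a1561550f01870f103e0c810504a02a1340860280680ef08309a05408019011b1600771440ab18400009600203605f15415d07201418f0300aa0520de0e10b1)
 (.leaf 0x11d07d0ec0890551060d51201080a30470570a214000e0b90c714d05118b16516609c0160ae03217313c1930c518c0fe11210703904f0460c610409405d17400713718a0be000123188141048176)))
 (.node 104
 (.node 52
 (.leaf 0x1861100180ee17b1620a70e704310a1820d30560e511804d02507807f12e01a09315308b1750d811614e14a00906b16914517704212609e0b30a503b0eb1950f618015a19608103f0a10b614816d)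
 (.leaf 0x15812404917f02d0f904c0821610bd0c10210d40980bb0a813613209f1350910df07b1511210870750dd03300c16e1710000e40b70130530660740db0c30bc0f802c0000ce11116711e0230f2192))
 (.node 52
 (.leaf 0x260cb0e80500b405c09707105e0fb02f02e1270fa00a01c05b11704e0c212506a08401f0fc0a910f12d04406e07e0370c003508814b01d06c1520240d90630640e20a406911c0dc0000a0122076)
 (.leaf 0x9b04b0060291090e901b01206d0190f40b200502211512c06f0e31300a602b0730b01021010fd01e12a0e008c0ea0310b510007000b07a0e612b0cc02000f05909208d12908f11311f0f509d03a))))

end CfsgLib.SuzRecog.Data
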