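import Cfsg.Agent.Lib.SuzRecog.Graph416
import Cfsg.Agent.Lib.SuzRecog.AutData
import Mathlib.GroupTheory.GroupAction.FixingSubgroup

/-!
The automorphism group of the graph on 416 points has order below `1782 · |G₂(4)|`.

An automorphism fixing the first `D` base points preserves adjacency to these points and, for a set `T` of
them, the number of neighbours inside the set `C` of their common neighbours.  These invariants bound the
orbit of the next base point and separate all the points outside the base.
-/

set_option autoImplicit false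
set_option maxRecDepth 10000

namespace CfsgLib.SuzRecog

open CfsgLib.CosetEnum

/-- Adjacency as a Boolean, on naturals. -/
noncomputable def adjB (x u : ℕ) : Bool := (adjM x).testBit u

/-- The number of neighbours of `x` in a list. -/
noncomputable def cntN (x : ℕ) (C : List ℕ) : ℕ := C.countP fun u => adjB x u

/-- `x` looks like the base point `v` from the first `D` base points. -/
noncomputable def clsB (D v x : ℕ) : Bool :=
  (Data.autPts.take D).all (fun p => !Nat.beq x p && (adjB x p == adjB v p)) &&
    Data.autInv.all (fun e => Nat.blt D e.2.2 || Nat.beq (cntN x e.2.1) (cntN v e.2.1))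

/-- The key of a point: its invariants with respect to the whole base. -/
noncomputable def keyN (x : ℕ) : ℕ :=
  Data.autInv.foldl (fun k e => (k <<< 8) + cntN x e.2.1)
    (Data.autPts.foldl (fun k p => k * 2 + cond (adjB x p) 1 0) 0)

/-- A set of base points with the list of their common neighbours. -/
noncomputable def invB (e : List ℕ × List ℕ × ℕ) : Bool :=
  e.1.all (fun t => (Data.autPts.take e.2.2).contains t) &&
    e.2.1.all (fun u => Nat.blt u 416) && decide e.2.1.Nodup &&
      allFrom (fun u => e.2.1.contains u == e.1.all (fun t => adjB t u)) 416 0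

theorem inv_ok : Data.autInv.all invB = true := by decide +kernel

theorem pts_ok : (Data.autPts.all (fun p => Nat.blt p 416) && decide Data.autPts.Nodup &&
    Nat.beq Data.autPts.length 8 && Nat.beq Data.autSizes.length 8) = true := by decide +kernel

/-- The class sizes. -/
noncomputable def sizeB : Bool :=
  (List.range 8).all fun D =>
    Nat.beq ((List.range 416).countP (clsB D (Data.autPts.getD D 0))) (Data.autSizes.getD D 0)

theorem size_ok : sizeB = true := by decide +kernel

theorem sort_ok : allFrom (fun i => Nat.blt (Data.autSort.get 12 i) 416 &&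
    Nat.blt (keyN (Data.autSort.get 12 i)) (keyN (Data.autSort.get 12 (i + 1)))) 407 0 = true := by
  decide +kernel

theorem pos_ok : allFrom (fun x => Data.autPts.contains x ||
    (Nat.blt (Data.autPos.get 12 x) 408 && Nat.beq (Data.autSort.get 12 (Data.autPos.get 12 x)) x)) 416 0
      = true := by decide +kernel

theorem prod_ok : Nat.blt Data.autSizes.prod (1782 * 251596800) = true := by decide +kernel

theorem key_lt {i j : ℕ} (hij : i < j) (hj : j < 408) :
    keyN (Data.autSort.get 12 i) < keyN (Data.autSort.get 12 j) := by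
  have h : ∀ i, i < 407 → keyN (Data.autSort.get 12 i) < keyN (Data.autSort.get 12 (i + 1)) := fun i hi => by
    have h := allFrom_spec _ _ _ sort_ok i (Nat.zero_le _) (by omega)
    rw [Bool.and_eq_true, Nat.blt_eq, Nat.blt_eq] at h
    exact h.2
  induction j with
  | zero => omega
  | succ j ih =>
    rcases Nat.lt_succ_iff_lt_or_eq.1 hij with h' | rfl
    · exact (ih h' (by omega)).trans (h j (by omega))
    · exact h i (by omega)

theorem autKey_inj {x y : ℕ} (hx : x < 416) (hy : y < 416) (hxp : x ∉ Data.autPts) (hyp : y ∉ Data.autPts)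
    (h : keyN x = keyN y) : x = y := by
  have hpos : ∀ x, x < 416 → x ∉ Data.autPts →
      Data.autPos.get 12 x < 408 ∧ Data.autSort.get 12 (Data.autPos.get 12 x) = x := fun x hx hxp => by
    have h := allFrom_spec _ _ _ pos_ok x (Nat.zero_le _) (by omega)
    rw [Bool.or_eq_true, List.contains_iff_mem, Bool.and_eq_true, Nat.blt_eq, Nat.beq_eq] at h
    exact h.resolve_left hxp
  obtain ⟨hi, ex⟩ := hpos x hx hxp
  obtain ⟨hj, ey⟩ := hpos y hy hyp
  rcases lt_trichotomy (Data.autPos.get 12 x) (Data.autPos.get 12 y) with hl | he | hl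
  · have := key_lt hl hj; rw [ex, ey, h] at this; omega
  · rw [← ex, ← ey, he]
  · have := key_lt hl hi; rw [ex, ey, h] at this; omega

/-- A permutation of the points on naturals. -/
def natMap (π : Equiv.Perm (Fin 416)) (u : ℕ) : ℕ := if h : u < 416 then (π ⟨u, h⟩ : ℕ) else u

theorem natMap_val (π : Equiv.Perm (Fin 416)) (x : Fin 416) : natMap π x = π x := dif_pos x.2

theorem natMap_injective (π : Equiv.Perm (Fin 416)) : Function.Injective (natMap π) := by
  intro a b h
  unfold natMap at h
  split_ifs at h with ha hb hb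
  · have := congrArg Fin.val (π.injective (Fin.ext h)); exact this
  · omega
  · omega
  · exact h

theorem adjB_natMap {π : Equiv.Perm (Fin 416)} (hπ : π ∈ autA) {a b : ℕ} (ha : a < 416) (hb : b < 416) :
    adjB (natMap π a) (natMap π b) = adjB a b := by
  unfold natMap
  rw [dif_pos ha, dif_pos hb]
  exact Bool.eq_iff_iff.2 (hπ ⟨a, ha⟩ ⟨b, hb⟩)

/-- Fixing the first `D` base points. -/
def FixN (π : Equiv.Perm (Fin 416)) (D : ℕ) : Prop := ∀ p ∈ Data.autPts.take D, natMap π p = p

theorem pts_lt {p : ℕ} (hp : p ∈ Data.autPts) : p < 416 := by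
  have h := pts_ok
  simp only [Bool.and_eq_true, List.all_eq_true, Nat.blt_eq] at h
  exact h.1.1.1 p hp

theorem pts_nodup : Data.autPts.Nodup ∧ Data.autPts.length = 8 ∧ Data.autSizes.length = 8 := by
  have h := pts_ok
  simp only [Bool.and_eq_true, Nat.beq_eq, decide_eq_true_eq] at h
  exact ⟨h.1.1.2, h.1.2, h.2⟩

theorem adjB_fixed {π : Equiv.Perm (Fin 416)} (hπ : π ∈ autA) {D : ℕ} (hD : FixN π D) {x p : ℕ} (hx : x < 416)
    (hp : p ∈ Data.autPts.take D) : adjB (natMap π x) p = adjB x p := by
  conv_lhs => rw [← hD p hp]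
  exact adjB_natMap hπ hx (pts_lt (List.mem_of_mem_take hp))

theorem cnt_fixed {π : Equiv.Perm (Fin 416)} (hπ : π ∈ autA) {D : ℕ} (hD : FixN π D) {x : ℕ} (hx : x < 416)
    {e : List ℕ × List ℕ × ℕ} (he : e ∈ Data.autInv) (hs : e.2.2 ≤ D) :
    cntN (natMap π x) e.2.1 = cntN x e.2.1 := by
  have h := List.all_eq_true.1 inv_ok e he
  simp only [invB, Bool.and_eq_true, List.all_eq_true, Nat.blt_eq, decide_eq_true_eq,
    List.contains_iff_mem] at h
  obtain ⟨⟨⟨hT, hC⟩, hnd⟩, hfull⟩ := h
  have hmem : ∀ u, u < 416 → (u ∈ e.2.1 ↔ ∀ t ∈ e.1, adjB t u = true) := fun u hu => by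
    have := allFrom_spec _ _ _ hfull u (Nat.zero_le _) (by omega)
    rw [beq_iff_eq] at this
    rw [← List.contains_iff_mem, this, List.all_eq_true]
  have hT' : ∀ t ∈ e.1, t ∈ Data.autPts.take D := fun t ht =>
    List.take_subset_take_left _ hs (hT t ht)
  have hsub : e.2.1.map (natMap π) ⊆ e.2.1 := by
    intro v hv
    obtain ⟨u, hu, rfl⟩ := List.mem_map.1 hv
    have hu' := hC u hu
    refine (hmem _ ?_).2 fun t ht => ?_
    · rw [natMap, dif_pos hu']; exact Fin.is_lt _
    · have h1 := (hmem u hu').1 hu t ht
      rw [← hD t (hT' t ht), adjB_natMap hπ (pts_lt (List.mem_of_mem_take (hT' t ht))) hu']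
      exact h1
  have hperm : (e.2.1.map (natMap π)).Perm e.2.1 :=
    (List.subperm_of_subset (hnd.map (natMap_injective π)) hsub).perm_of_length_le
      (by rw [List.length_map])
  show List.countP _ e.2.1 = List.countP _ e.2.1
  conv_lhs => rw [← hperm.countP_eq, List.countP_map]
  exact List.countP_congr fun u hu => by
    rw [Function.comp_apply, adjB_natMap hπ hx (hC u hu)]

theorem clsB_fixed {π : Equiv.Perm (Fin 416)} (hπ : π ∈ autA) {D : ℕ} (hD : FixN π D) (hlt : D < 8) :
    clsB D (Data.autPts.getD D 0) (natMap π (Data.autPts.getD D 0)) = true := by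
  have hlen := pts_nodup.2.1
  have hget : Data.autPts.getD D 0 = Data.autPts[D]'(by omega) := List.getD_eq_getElem _ _ _
  set v := Data.autPts.getD D 0
  have hv : v < 416 := pts_lt (hget ▸ List.getElem_mem _)
  rw [clsB, Bool.and_eq_true, List.all_eq_true, List.all_eq_true]
  refine ⟨fun p hp => ?_, fun e he => ?_⟩
  · rw [Bool.and_eq_true, adjB_fixed hπ hD hv hp, Bool.not_eq_true']
    refine ⟨Bool.eq_false_iff.2 fun hb => ?_, beq_self_eq_true _⟩
    have hvp := Nat.eq_of_beq_eq_true hb
    have hne : v ≠ p := by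
      intro hvp
      obtain ⟨i, hi, hip⟩ := List.getElem_of_mem hp
      rw [List.getElem_take] at hip
      rw [List.length_take] at hi
      have := (pts_nodup.1.getElem_inj_iff).1 (hip.trans (hvp ▸ hget))
      omega
    exact hne (natMap_injective π (hvp.trans (hD p hp).symm))
  · rw [Bool.or_eq_true]
    rcases lt_or_ge D e.2.2 with h | h
    · exact Or.inl (by rw [Nat.blt_eq]; exact h)
    · exact Or.inr (by rw [Nat.beq_eq]; exact cnt_fixed hπ hD hv he h)

/-- The automorphisms fixing the first `D` base points. -/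
def fixA (D : ℕ) : Subgroup (Equiv.Perm (Fin 416)) :=
  autA ⊓ fixingSubgroup (Equiv.Perm (Fin 416)) {x : Fin 416 | (x : ℕ) ∈ Data.autPts.take D}

theorem mem_fixA {D : ℕ} {π : Equiv.Perm (Fin 416)} : π ∈ fixA D ↔ π ∈ autA ∧ FixN π D := by
  rw [fixA, Subgroup.mem_inf, mem_fixingSubgroup_iff]
  refine and_congr_right fun _ => ⟨fun h p hp => ?_, fun h x hx => ?_⟩
  · have hp' := pts_lt (List.mem_of_mem_take hp)
    rw [natMap, dif_pos hp']
    exact congrArg Fin.val (h ⟨p, hp'⟩ hp)
  · exact Fin.ext ((natMap_val π x).symm.trans (h (x : ℕ) hx))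

theorem card_fixA_le {D : ℕ} (hlt : D < 8) :
    Nat.card (fixA D) ≤ Data.autSizes.getD D 0 * Nat.card (fixA (D + 1)) := by
  have hlen := pts_nodup.2.1
  have hget : Data.autPts.getD D 0 = Data.autPts[D]'(by omega) := List.getD_eq_getElem _ _ _
  have hv : Data.autPts.getD D 0 < 416 := pts_lt (hget ▸ List.getElem_mem _)
  set x : Fin 416 := ⟨_, hv⟩
  have h := Subgroup.card_mul_index (MulAction.stabilizer (fixA D) x)
  rw [MulAction.index_stabilizer] at h
  have e : Nat.card (MulAction.stabilizer (fixA D) x) ≤ Nat.card (fixA (D + 1)) := by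
    refine Nat.card_le_card_of_injective (fun π => ⟨π.1.1, mem_fixA.2 ⟨(mem_fixA.1 π.1.2).1, fun p hp => ?_⟩⟩)
      fun a b h => Subtype.ext (Subtype.ext (congrArg (fun z : fixA (D + 1) => z.1) h))
    rw [List.take_add_one, List.getElem?_eq_getElem (by omega), Option.toList_some, List.mem_append,
      List.mem_singleton] at hp
    rcases hp with hp | rfl
    · exact (mem_fixA.1 π.1.2).2 p hp
    · rw [← hget, natMap, dif_pos hv]
      exact congrArg Fin.val π.2
  have o : (MulAction.orbit (fixA D) x).ncard ≤ Data.autSizes.getD D 0 := by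
    have hs := List.all_eq_true.1 size_ok D (List.mem_range.2 hlt)
    rw [← Nat.eq_of_beq_eq_true hs, List.countP_eq_length_filter, ← List.toFinset_card_of_nodup (List.nodup_range.filter _),
      ← Set.ncard_coe_finset]
    refine Set.ncard_le_ncard_of_injOn (fun y : Fin 416 => (y : ℕ)) ?_ Fin.val_injective.injOn
      (Finset.finite_toSet _)
    rintro _ ⟨π, rfl⟩
    obtain ⟨haut, hfix⟩ := mem_fixA.1 π.2
    rw [Finset.mem_coe, List.mem_toFinset, List.mem_filter, List.mem_range]
    refine ⟨Fin.is_lt _, ?_⟩
    have := clsB_fixed haut hfix hlt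
    rwa [natMap, dif_pos hv] at this
  rw [← h, mul_comm]
  exact Nat.mul_le_mul o e

theorem fixA_eight : fixA 8 = ⊥ := by
  rw [eq_bot_iff]
  intro π hπ
  obtain ⟨haut, hfix⟩ := mem_fixA.1 hπ
  have htake : Data.autPts.take 8 = Data.autPts := List.take_of_length_le pts_nodup.2.1.le
  rw [FixN, htake] at hfix
  have hfold : ∀ {α : Type} (f g : ℕ → α → ℕ) (l : List α) (a : ℕ), (∀ k, ∀ b ∈ l, f k b = g k b) →
      l.foldl f a = l.foldl g a := by
    intro α f g l
    induction l with
    | nil => intros; rfl
    | cons b l ih =>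
      intro a h
      rw [List.foldl_cons, List.foldl_cons, h a b List.mem_cons_self,
        ih _ fun k c hc => h k c (List.mem_cons_of_mem _ hc)]
  have hfix8 : FixN π 8 := by rwa [FixN, htake]
  refine Subgroup.mem_bot.2 (Equiv.ext fun x => ?_)
  by_cases hx : (x : ℕ) ∈ Data.autPts
  · exact Fin.ext ((natMap_val π x).symm.trans (hfix _ hx))
  · have hx' : natMap π x ∉ Data.autPts := fun h => hx (by
      have := natMap_injective π (hfix _ h)
      rwa [this] at h)
    have hkey : keyN (natMap π x) = keyN x := by
      rw [keyN, keyN, hfold _ (fun k p => k * 2 + cond (adjB x p) 1 0) Data.autPts 0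
        (fun k p hp => by rw [adjB_fixed haut hfix8 x.2 (htake.symm ▸ hp)])]
      refine hfold _ _ _ _ fun k e he => ?_
      rw [cnt_fixed haut (D := max 8 e.2.2) ?_ x.2 he (le_max_right _ _)]
      intro p hp
      exact hfix p (List.mem_of_mem_take hp)
    have hlt : natMap π x < 416 := by rw [natMap_val]; exact Fin.is_lt _
    have h := autKey_inj hlt x.2 hx' hx hkey
    rw [natMap_val] at h
    exact Fin.ext h

theorem card_autA_le (k D : ℕ) (h : D + k = 8) : Nat.card (fixA D) ≤ (Data.autSizes.drop D).prod := by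
  induction k generalizing D with
  | zero =>
    obtain rfl : D = 8 := by omega
    rw [fixA_eight, List.drop_of_length_le pts_nodup.2.2.le]
    simp
  | succ k ih =>
    have hlen := pts_nodup.2.2
    rw [List.drop_eq_getElem_cons (by omega), List.prod_cons, ← List.getD_eq_getElem _ 0]
    exact (card_fixA_le (by omega)).trans (Nat.mul_le_mul_left _ (ih (D + 1) (by omega)))

/-- The automorphism group of the graph on 416 points is smaller than `1782 · |G₂(4)|`. -/
theorem card_autA_lt : Nat.card autA < 1782 * 251596800 := by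
  have h := card_autA_le 8 0 rfl
  have e : fixA 0 = autA := by
    ext π; simp [mem_fixA, FixN]
  rw [e, List.drop_zero] at h
  exact h.trans_lt (Nat.blt_eq ▸ prod_ok)

end CfsgLib.SuzRecog
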