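import Cfsg.Agent.Lib.CosetEnum.Cert

/-! Generated: short words with distinct images and vectors with negative norm. -/

set_option autoImplicit false
set_option linter.all false

namespace CfsgLib.SuzRecog.Data

open CfsgLib.CosetEnum

def orbPts : List Nat := [92, 167, 115, 160, 134, 129, 156, 249, 212, 6, 150, 83, 324, 148, 24, 59, 220, 313, 111, 142]
def orbWords0 : List (List Nat) := [[1, 0, 3, 4], [0, 2, 3, 5], [0, 1, 2, 4, 3, 5], [0, 1, 0, 4, 3], [1, 2, 1, 3, 2], [0, 4, 3, 5], [2, 3, 4, 5, 1], [2, 3, 2], [1, 4, 5, 1, 0], [0, 1, 0, 1], [0, 2, 1, 0], [0, 4, 5], [1, 0, 3, 2, 4, 3], [1, 0, 1, 0, 4, 3], [1, 0, 1, 0, 4, 5], [2, 3, 2, 3], [0, 1, 4, 3, 2, 3], [1, 0, 4, 3], [4, 5, 1, 0], [0, 2, 3], [1, 4, 5], [2,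 1, 0, 1, 5], [4, 3, 5, 1, 0], [1, 0, 3, 5, 1, 2], [1, 2, 4], [0, 1, 3, 2, 3, 2], [1, 0, 3], [2, 1, 4, 5, 1], [0, 3, 2, 3, 5], [1, 0, 2, 4, 3], [2, 1], [2, 3, 2, 1, 5], [1, 2, 3, 2, 3, 5], [1, 0, 2, 1, 5, 1], [1, 2, 3], [0, 3, 2, 1, 5], [2, 1, 0], [1, 2, 1, 3, 4], [1, 3, 2, 3, 5], [1, 2, 1, 0, 3, 5], [0, 2, 1, 3], [0, 2, 1, 3, 4, 5], [1, 0, 2, 1, 0, 3], [1, 3, 4, 3, 5], [1, 4, 3, 5], [2, 3, 2, 5], [1, 0, 1, 4, 3, 5], [0, 4, 5, 1, 0]]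
def orbWords1 : List (List Nat) := [[1, 3, 2, 3, 2], [0], [1, 0, 3, 2, 3], [1, 2, 4, 5, 1], [1, 0, 3, 2, 5], [0, 1, 3, 2], [2, 1, 3, 2, 3], [1, 2, 4, 3, 2, 3], [0, 1, 0, 1, 3, 5], [1, 2, 3, 5, 1, 0], [1, 0, 2, 3, 5], [0, 2, 1, 5, 1], [1, 2, 1, 0, 1, 4], [1, 0, 1, 4], [1, 0, 1, 2, 4, 5], [3, 2, 4, 5], [2, 5, 1], [0, 2, 3, 4], [0, 1, 2], [0, 2, 1, 0, 5, 1], [0, 2, 5, 1, 0], [2, 5, 1, 0], [0, 2, 1, 3, 2, 5], [3, 2, 4, 5, 1], [2, 5, 1, 0, 2], [2, 1, 0, 5, 1], [1, 0, 2, 1, 0, 5], [3, 4, 3, 5, 1], [1, 2, 1, 5, 1, 0], [1, 2, 5], [0, 1, 0, 2, 4, 5], [0, 2, 3, 4, 5], [0, 1, 3, 5], [1, 0, 2, 3, 2, 5], [0, 1, 0, 4], [1, 4, 3], [0, 2, 4, 5, 1], [0, 1, 2, 1, 4, 5], [3, 4], [1, 2, 3, 4, 5], [1, 0, 4], [2], [1, 0, 3, 4, 5], [0,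 1, 0, 1, 2, 5], [0, 2, 1, 0, 4, 5], [2, 1, 0, 4, 5], [1, 2, 1, 3, 4, 3], [1, 2, 1, 0, 4, 5]]
def orbWords2 : List (List Nat) := [[1, 0, 2, 4, 5, 1], [1, 3, 2], [1, 0, 2, 4, 5], [3, 2], [4, 3, 2, 3], [2, 4, 3, 5], [2, 1, 4, 3], [0, 1, 3, 4, 5, 1], [1, 3, 4], [1, 2, 1, 3, 4, 5], [0, 5, 1, 2, 3], [1, 0, 1, 5, 1], [0, 2, 5], [2, 1, 0, 5], [5, 1, 2, 3, 4], [1, 3, 2, 4, 5], [3, 2, 3], [3, 2, 1, 5, 1], [1, 2, 1, 3, 5, 1], [4, 5], [1, 3, 5], [1, 2, 4, 3, 5, 1], [0, 2, 1, 0, 1], [0, 1, 2, 3, 5], [2, 3, 2, 5, 1], [1, 2, 3, 2, 1, 5], [1, 2, 1, 0, 1], [0, 1, 4, 3, 5, 1], [2, 3, 5, 1], [0, 4, 3, 2, 1, 5], [1, 0, 3, 4, 3], [0, 3, 5, 1], [2, 1, 5, 1], [0, 2, 4, 5], [0, 4], [1, 0, 1, 0], [1, 5, 1, 0], [3, 5, 1], [0, 2, 3, 5, 1],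 [1, 0, 1, 3, 5], [1, 5, 1, 2], [0, 1, 2, 1, 3, 4], [0, 3, 4, 3], [0, 1, 0, 3, 5, 1], [0, 1, 0, 3], [0, 2, 1, 4, 5, 1], [1, 0, 1, 2, 3, 5], [1, 2, 1, 0, 5, 1]]
def orbWords3 : List (List Nat) := [[0, 3, 5, 1, 0], [2, 3, 2, 3, 5], [0, 2, 3, 2, 5, 1], [3, 5, 1, 0], [5, 1, 2, 3], [5, 1, 0, 2, 3], [0, 1, 4, 3], [0, 3, 4], [2, 3, 4, 5], [3, 2, 1, 0, 1], [0, 1, 4], [0, 2, 1, 3, 4, 3], [1, 2, 5, 1, 0, 1], [0, 1, 3, 4, 3], [1, 2, 1], [0, 2, 1, 0, 1, 4], [1, 2, 1, 5, 1], [5, 1, 0, 2, 1], [1, 0, 2, 3, 4], [1, 0, 4, 3, 5], [2, 3, 5, 1, 0], [1, 2, 1, 5], [1, 0, 1, 2, 3, 4], [2, 3, 2, 4, 3], [1, 0, 1, 0, 4], [1, 0, 2], [5], [1, 3, 4, 5], [0, 1, 0, 4, 3, 5], [1, 0, 2, 1, 5], [0, 1, 0, 2, 5, 1], [0, 1, 0, 1, 0, 3], [1, 0, 2, 1,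 4], [0, 1, 0, 2, 3], [1, 0, 3, 4, 5, 1], [4, 3, 5, 1], [1, 3, 2, 5], [0, 1, 3, 2, 3], [0, 3, 5], [0, 1, 3, 5, 1], [0, 1, 2, 3, 2], [2, 4, 5], [1, 2, 1, 4, 5, 1], [1, 2, 4, 3, 5], [0, 5, 1, 0, 2], [0, 2, 3, 2, 1, 5], [2, 4, 3, 2, 3], [2, 3, 5, 1, 2]]
def orbWords4 : List (List Nat) := [[0, 1, 3, 4], [0, 4, 3], [1, 2, 1, 0, 1, 5], [2, 3, 4, 3, 5], [1, 0, 1, 0, 3, 5], [3], [1, 0, 2, 5, 1], [0, 1, 3, 5, 1, 0], [1, 0, 3, 5, 1], [0, 3, 5, 1, 0, 1], [2, 1, 4], [1, 2, 3, 2, 3], [0, 2, 5, 1, 0, 2], [0, 2, 3, 4, 3], [1, 3, 2, 1, 5], [1, 2, 1, 0, 5], [0, 1, 5, 1, 0, 2], [2, 4, 5, 1], [1, 2, 4, 5], [3, 4, 5, 1], [2, 4, 3, 5, 1], [4, 3], [0, 3, 2, 4, 3, 5], [1, 0, 2, 3], [0, 1, 2, 1, 0], [0, 2, 1], [0, 3, 2, 1, 0, 1], [0, 1,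 0, 2, 1], [3, 2, 1, 0, 3], [2, 1, 0, 4], [0, 1, 2, 5, 1, 0], [2, 5, 1, 2, 3], [0, 3, 4, 5], [0, 1, 2, 4, 5, 1], [0, 1, 0, 1, 0, 4], [1, 0, 1, 3, 4, 5], [2, 1, 0, 3, 4], [3, 5, 1, 0, 1], [1, 0, 4, 3, 5, 1], [3, 2, 1, 3, 5], [2, 1, 0, 1], [0, 1, 0, 1, 5, 1], [4, 3, 2, 3, 5], [3, 2, 1, 5], [1, 0, 1, 3, 2, 5], [3, 5, 1, 2], [0, 2, 4], [0, 2, 1, 4, 3, 5]]
def orbWords5 : List (List Nat) := [[2, 1, 0, 1, 4], [1, 0, 1], [2, 3, 2, 1], [0, 1, 5, 1, 2, 3], [3, 2, 1], [1, 2, 1, 0, 3], [0, 1, 4, 5], [1, 3, 2, 5, 1], [0, 1, 3], [3, 2, 5], [0, 1, 0, 2], [0, 1, 2, 3, 2, 3], [0, 2, 3, 2, 4, 3], [1, 2, 3, 5], [1, 5, 1], [2, 1, 5], [1, 5, 1, 0, 2], [1, 0, 2, 1], [2, 1, 0, 3], [1, 0, 4, 5], [0, 1, 0, 5], [1, 0, 1, 4, 3], [1], [0,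 4, 3, 2, 3], [1, 2, 1, 3, 5], [0, 3, 5, 1, 2], [2, 1, 3, 5, 1], [0, 2, 4, 3, 5], [0, 1, 0, 4, 5], [0, 1, 4, 5, 1, 0], [1, 2, 1, 0, 4, 3], [0, 1, 2, 5], [0, 2, 1, 0, 3], [0, 1, 2, 1, 3], [1, 2, 3, 2, 5, 1], [0, 3, 2], [0, 2, 4, 3], [0, 3, 4, 5, 1], [0, 1, 2, 4, 5], [0, 1, 0, 1, 4, 3], [1, 0, 1, 5, 1, 0], [2, 1, 3, 4], [0, 5, 1, 0, 2, 3], [0, 2, 1, 4, 5], [1, 2, 1, 4, 3, 5], [0, 2, 3, 2], [0, 3, 2, 3], [1, 0, 1, 3, 4]]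
def orbWords6 : List (List Nat) := [[2, 1, 0, 3, 5], [4, 3, 5], [2, 1, 3, 2, 5], [0, 2, 1, 3, 5, 1], [1, 4, 3, 2, 3], [0, 1, 0, 5, 1], [2, 1, 3, 5], [], [5, 1], [2, 1, 0, 4, 3], [5, 1, 0, 2], [1, 2, 1, 5, 1, 2], [0, 2, 1, 3, 4], [1, 0, 2, 3, 2], [2, 5, 1, 0, 1], [0, 1, 2, 5, 1], [0, 2, 5, 1], [0, 3], [1, 3, 4, 3], [1, 2, 5, 1, 2], [1, 0, 1, 4, 5], [1, 0, 1, 5, 1, 2], [0, 1, 2, 3, 4], [4, 3, 2, 1, 5], [0, 2, 5, 1, 2, 3], [1, 0, 3, 5], [2, 1, 3, 4, 5], [3, 4, 5], [3, 2, 3, 2], [1, 0, 3, 2, 1, 5], [1, 0, 1, 3, 5, 1], [1, 3, 5, 1, 2], [0, 1, 0], [0, 1], [0, 1, 0, 2, 3, 2], [0, 1, 2, 3], [2, 3], [1, 0, 1, 2, 1, 0], [1, 0, 2, 3, 4, 3], [0, 2], [0, 1, 2, 5, 1, 2], [0, 2, 3, 5, 1, 2], [0, 1, 4, 3, 5], [0, 2, 5, 1, 0, 1],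 [1, 0, 1, 2, 5, 1], [2, 1, 5, 1, 0], [0, 1, 3, 4, 5], [4]]
def orbWords7 : List (List Nat) := [[0, 4, 3, 5, 1], [1, 0, 2, 5], [0, 1, 0, 1, 3, 4], [1, 2, 5, 1, 0], [0, 1, 2, 1, 0, 1], [1, 0, 2, 3, 4, 5], [1, 3, 5, 1], [2, 1, 3], [1, 0, 1, 0, 5, 1], [0, 5], [2, 4], [1, 0, 5], [0, 1, 5, 1], [0, 1, 5, 1, 2], [3, 5], [0, 2, 1, 5], [1, 2, 1, 0], [1, 3], [0, 2, 3, 2, 1], [0, 1, 3, 2, 4, 5], [0, 2, 1, 4], [0, 3, 2, 1], [2, 1, 4, 5], [3, 2, 1, 4, 5], [0, 4, 5, 1, 0, 1], [4, 5, 1, 0, 1], [1, 0, 2, 3, 2, 1], [0, 3, 2, 5], [1, 3, 4, 5, 1], [2, 5], [1, 2, 5, 1], [0, 3, 2, 1, 5, 1], [3, 2, 3, 2, 5], [4, 5, 1], [0, 1, 2, 1, 3, 5], [0, 2, 1, 3, 2, 3], [0, 1, 0, 2, 5], [0, 2, 1, 0, 3, 5], [0, 5, 1, 0, 2, 1], [0, 1, 2, 1, 5], [3,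 2, 5, 1], [3, 4, 3], [0, 2, 3, 2, 5], [1, 2, 1, 3, 2, 3], [0, 5, 1, 0, 1], [1, 0, 1, 2, 1, 5], [0, 1, 3, 2, 5, 1], [1, 0, 5, 1]]
def orbWords8 : List (List Nat) := [[1, 0, 1, 5], [3, 2, 1, 4], [1, 2, 1, 4, 5], [1, 0, 1, 2, 3, 2], [0, 1, 0, 2, 4, 3], [0, 1, 0, 1, 3], [2, 1, 3, 4, 3], [1, 4], [0, 3, 5, 1, 2, 3], [1, 2, 3, 5, 1], [0, 5, 1, 2], [1, 4, 3, 5, 1], [1, 3, 2, 3], [2, 3, 5], [0, 3, 2, 4, 3], [2, 4, 5, 1, 0], [0, 5, 1], [0, 5, 1, 0], [1, 2, 3, 4, 5, 1], [1, 0, 1, 0, 2, 5], [0, 1, 0, 5, 1, 2], [3, 2, 3, 5], [1, 0, 5, 1, 2, 3], [3, 4, 3, 5], [0, 1, 0, 1, 0, 5], [1, 0, 2, 4, 3, 5], [2, 5, 1, 2], [1, 2], [0, 2, 1, 3, 5], [1, 0, 5, 1, 0, 1], [3, 2, 1, 0, 5], [1, 2, 3, 4], [1, 0, 4, 5, 1], [5, 1, 0, 1], [0, 2,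 1, 0, 4], [1, 2, 3, 4, 3, 5], [0, 1, 0, 3, 4, 3], [2, 1, 4, 3, 5], [0, 2, 4, 5, 1, 0], [1, 2, 5, 1, 0, 2], [1, 0, 1, 3], [0, 3, 4, 3, 5], [1, 2, 3, 4, 3], [0, 1, 0, 1, 0], [0, 1, 2, 1, 0, 5], [1, 5, 1, 0, 1], [0, 1, 0, 1, 5], [0, 2, 1, 3, 2]]
def orbWords9 : List (List Nat) := [[0, 1, 2, 1, 3, 2], [0, 1, 4, 5, 1], [0, 2, 1, 0, 5], [1, 5], [0, 1, 5, 1, 0], [5, 1, 0], [0, 3, 2, 5, 1], [1, 0, 2, 3, 5, 1], [0, 1, 5, 1, 0, 1], [1, 0, 1, 0, 5], [1, 0, 1, 0, 3], [5, 1, 0, 1, 5], [1, 0, 1, 2, 5], [5, 1, 2], [1, 2, 1, 3], [1, 0], [0, 1, 3, 4, 3, 5], [1, 0, 4, 3, 2, 3], [1, 3, 5, 1, 0], [0, 4, 5, 1], [0, 2, 3, 4, 5, 1], [3, 5, 1, 2, 3], [2, 4, 3], [1, 5, 1, 2, 3]]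
def orbWords : List (List Nat) := orbWords0 ++ orbWords1 ++ orbWords2 ++ orbWords3 ++ orbWords4 ++ orbWords5 ++ orbWords6 ++ orbWords7 ++ orbWords8 ++ orbWords9
def negVecs : List (Int × Int × List Int) := [(1280, 336, [79, 93, 279, 0, 0]), (2992, -336, [191, 177, 573, 0, 0]), (2992, -336, [191, 177, 573, 0, 0])]

end CfsgLib.SuzRecog.Data
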