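import Cfsg.Agent.Lib.CosetEnum.Perm
import Cfsg.Agent.Lib.SuzRecog.GraphData

/-! The graph on 416 points. -/

set_option autoImplicit false

namespace CfsgLib.SuzRecog

open CfsgLib.CosetEnum

/-- The neighbourhood mask. -/
noncomputable def adjM (i : ℕ) : ℕ := Data.adjT.get 416 i

/-- Adjacency on 416 points. -/
def gadj (i j : Fin 416) : Prop := (adjM i).testBit j = true

/-- Automorphisms of the graph on 416 points. -/
def autA : Subgroup (Equiv.Perm (Fin 416)) where
  carrier := {π | ∀ i j, gadj (π i) (π j) ↔ gadj i j}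
  one_mem' := fun _ _ => Iff.rfl
  mul_mem' := fun {a b} ha hb i j => (ha (b i) (b j)).trans (hb i j)
  inv_mem' := fun {a} ha i j => by simpa using (ha (a⁻¹ i) (a⁻¹ j)).symm

/-- The points of a mask. -/
def maskSet (m : ℕ) : Finset (Fin 416) := Finset.univ.filter fun i : Fin 416 => m.testBit i = true

theorem mem_maskSet {m : ℕ} {i : Fin 416} : i ∈ maskSet m ↔ m.testBit i = true := by simp [maskSet]

end CfsgLib.SuzRecog
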