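import Cfsg.Agent.Lib.SuzRecog.Act
import Cfsg.Agent.Lib.SuzRecog.Graph416
import Cfsg.Agent.Lib.SuzRecog.UData
import Cfsg.Agent.Lib.SuzRecog.GramData
import Mathlib.GroupTheory.GroupAction.Quotient

/-! The orbit of the chosen neighbourhood has at least 456 members. -/

set_option autoImplicit false
set_option maxRecDepth 10000

namespace CfsgLib.SuzRecog

open CfsgLib.CosetEnum

/-- The images of a set of points. -/
def orbitSets (S : Finset (Fin 416)) : Set (Finset (Fin 416)) :=
  {T | ∃ z : Suz.H, T = S.image (σ z)}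

/-- The neighbourhood of the chosen point. -/
noncomputable def S0 : Finset (Fin 416) := maskSet (Data.cands.getD 0 0)

/-- Membership of the test points in a preimage. -/
noncomputable def orbKey (l : List ℕ) : ℕ :=
  Data.orbPts.foldl (fun r b => strict r fun r => 2 * r + bif Nat.testBit (Data.cands.getD 0 0) (scan Data.gT l b) then 1 else 0) 0

/-- The keys increase. -/
noncomputable def incB : List (List ℕ) → ℕ → Bool
  | [], _ => true
  | l :: rest, prev => strict (orbKey l + 1) fun k => Nat.blt prev k && incB rest k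

theorem orbWords_ok : (incB Data.orbWords 0 && Nat.beq Data.orbWords.length 456 &&
    Data.orbWords.all (fun l => l.all fun x => decide (x < 6)) && Data.orbPts.all (fun b => Nat.blt b 416)) = true := by
  decide +kernel

theorem incB_sound : ∀ (L : List (List ℕ)) (prev : ℕ), incB L prev = true →
    (L.map fun l => orbKey l + 1).Pairwise (· < ·) ∧ ∀ k ∈ L.map fun l => orbKey l + 1, prev < k := by
  intro L
  induction L with
  | nil => intro prev _; exact ⟨List.Pairwise.nil, by simp⟩
  | cons l L ih =>
    intro prev h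
    unfold incB at h
    rw [strict_eq, Bool.and_eq_true, Nat.blt_eq] at h
    obtain ⟨h1, h2⟩ := ih _ h.2
    refine ⟨List.Pairwise.cons h2 h1, fun k hk => ?_⟩
    rcases List.mem_cons.1 hk with rfl | hk
    · exact h.1
    · exact h.1.trans (h2 k hk)

theorem gT_realised : Realised σ (⊤ : Subgroup Suz.H) Data.gT := fun j hj => by
  obtain ⟨z, hz⟩ := exists_gen (show j < 6 from hj)
  exact ⟨z, trivial, hz⟩

theorem orbit_S0_big : 456 ≤ (orbitSets S0).ncard := by
  classical
  have h := orbWords_ok
  simp only [Bool.and_eq_true, Nat.beq_eq, List.all_eq_true, decide_eq_true_eq, Nat.blt_eq] at h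
  obtain ⟨⟨⟨hinc, hlen⟩, hw⟩, hp⟩ := h
  have hex : ∀ q : Fin Data.orbWords.length, ∃ z : Suz.H, ∀ i : Fin 416,
      ((σ z i : Fin 416) : ℕ) = scan Data.gT Data.orbWords[q] i := by
    intro q
    obtain ⟨z, -, hz⟩ := realised_scan σ gT_realised Data.orbWords[q] fun x hx =>
      hw _ (List.getElem_mem q.2) x hx
    exact ⟨z, hz⟩
  choose z hz using hex
  let f : Fin Data.orbWords.length → Finset (Fin 416) := fun q => S0.image (σ (z q)⁻¹)
  have hmem : ∀ q (i : Fin 416), i ∈ f q ↔ Nat.testBit (Data.cands.getD 0 0) (scan Data.gT Data.orbWords[q] i) = true := by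
    intro q i
    simp only [f, Finset.mem_image]
    rw [← hz, map_inv]
    constructor
    · rintro ⟨j, hj, rfl⟩
      rw [Equiv.Perm.inv_def, Equiv.apply_symm_apply]
      exact mem_maskSet.1 hj
    · intro hi
      exact ⟨σ (z q) i, mem_maskSet.2 hi, by simp⟩
  have hkey : ∀ q q', f q = f q' → orbKey Data.orbWords[q] = orbKey Data.orbWords[q'] := by
    intro q q' e
    unfold orbKey
    refine List.foldl_ext _ _ _ fun r b hb => ?_
    have hb' := hp b hb
    have hi := Finset.ext_iff.1 e ⟨b, hb'⟩
    rw [hmem, hmem] at hi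
    rw [strict_eq, strict_eq, Bool.eq_iff_iff.2 hi]
  have hinj : Function.Injective f := by
    intro q q' e
    have hnd : (Data.orbWords.map fun l => orbKey l + 1).Nodup :=
      (incB_sound _ _ hinc).1.imp fun h => h.ne
    refine Fin.ext ((hnd.getElem_inj_iff (hi := by simp) (hj := by simp)).1 ?_)
    simp only [List.getElem_map]
    exact congrArg (· + 1) (hkey q q' e)
  have := Set.ncard_le_ncard (s := Set.range f) (t := orbitSets S0)
    (by rintro _ ⟨q, rfl⟩; exact ⟨(z q)⁻¹, rfl⟩) (Set.toFinite _)
  rw [Set.ncard_range_of_injective hinj, Nat.card_fin, hlen] at this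
  exact this

/-- An orbit of sets whose length divides 1365 and is not small has length 1365. -/
theorem orbit_S0_dvd (M : Subgroup Suz.H) (hM : M.index = 1365) (hfix : ∀ m ∈ M, S0.image (σ m) = S0) :
    1365 ≤ (orbitSets S0).ncard := by
  classical
  let : MulAction Suz.H (Finset (Fin 416)) :=
    { smul := fun z T => T.image (σ z)
      one_smul := fun T => by show T.image (σ 1) = T; rw [map_one]; simp
      mul_smul := fun y z T => by
        show T.image (σ (y * z)) = (T.image (σ z)).image (σ y)
        rw [Finset.image_image, map_mul, Equiv.Perm.coe_mul] }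
  have ho : MulAction.orbit Suz.H S0 = orbitSets S0 := by
    ext T
    exact ⟨fun ⟨z, h⟩ => ⟨z, h.symm⟩, fun ⟨z, h⟩ => ⟨z, h.symm⟩⟩
  have hd : (MulAction.stabilizer Suz.H S0).index ∣ M.index := Subgroup.index_dvd_of_le fun m hm => hfix m hm
  rw [MulAction.index_stabilizer, ho, hM] at hd
  have h456 := orbit_S0_big
  obtain ⟨k, hk⟩ := hd
  rcases Nat.lt_or_ge k 3 with h | h
  · interval_cases k <;> omega
  · have := Nat.mul_le_mul h456 h
    omega

end CfsgLib.SuzRecog
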