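import Cfsg.Agent.Lib.SuzRecog.ActData
import Cfsg.Agent.Lib.SuzRecog.NodeData
import Cfsg.Agent.Lib.SuzRecog.OrbData
import Cfsg.Agent.Lib.SuzRecog.KeyData
import Cfsg.Agent.Lib.SuzRecog.NormData
import Cfsg.Agent.Lib.CosetEnum.Base

/-! Kernel checks for subgroups of order 604800 on 416 points. -/

set_option autoImplicit false
set_option maxRecDepth 10000

namespace CfsgLib.SuzRecog

open CfsgLib.CosetEnum

/-- Image of a point under a node. -/
noncomputable def nd (k i : ℕ) : ℕ := Data.nodeT.get 12 (k * 416 + i)

/-- The program check. -/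
noncomputable def progB : List (ℕ × ℕ) → ℕ → Bool
  | [], k => Nat.beq k (6 + Data.prog.length)
  | (a, b) :: rest, k => Nat.blt a k && Nat.blt b k &&
      allFrom (fun i => Nat.beq (nd k i) (nd a (nd b i))) 416 0 && progB rest (k + 1)

theorem node0_ok : allFrom (fun i => allLin (fun k => Nat.beq (nd k i) (act Data.gT k i)) 6 0) 416 0 = true := by
  decide +kernel

/-- The check of a segment of the program. -/
noncomputable def segB : List (ℕ × ℕ) → ℕ → Bool
  | [], _ => true
  | (a, b) :: rest, k => Nat.blt a k && Nat.blt b k &&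
      allFrom (fun i => Nat.beq (nd k i) (nd a (nd b i))) 416 0 && segB rest (k + 1)

/-- A power of a node. -/
noncomputable def ndp (k e i : ℕ) : ℕ := Nat.rec i (fun _ ih => strict ih fun j => nd k j) e

theorem uv_ok : allFrom (fun i => Nat.beq (nd Data.nU (nd Data.nV i)) (nd Data.nV (nd Data.nU i)) &&
    Nat.beq (ndp Data.nU 5 i) i && Nat.beq (ndp Data.nV 5 i) i && Nat.beq (ndp Data.nZ 3 i) i &&
    Nat.beq (ndp Data.nX 7 i) i) 416 0 = true := by decide +kernel

theorem uv_indep : (allLin (fun e => !(allFrom (fun i => Nat.beq (nd Data.nV i) (ndp Data.nU e i)) 416 0)) 5 0 &&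
    !(allFrom (fun i => Nat.beq (nd Data.nU i) i) 416 0) && !(allFrom (fun i => Nat.beq (nd Data.nZ i) i) 416 0) &&
    !(allFrom (fun i => Nat.beq (nd Data.nX i) i) 416 0)) = true := by
  decide +kernel

/-- The powers `u ^ a * v ^ b`. -/
noncomputable def uvp (j i : ℕ) : ℕ := strict (ndp Data.nV (j % 5) i) fun y => ndp Data.nU (j / 5) y

/-- The inverse of `u ^ a * v ^ b`. -/
noncomputable def uvi (j i : ℕ) : ℕ := strict (ndp Data.nV ((5 - j % 5) % 5) i) fun y => ndp Data.nU ((5 - j / 5) % 5) y

/-- The list entry. -/
noncomputable def ent (t : ℕ) : ℕ := Data.entT.get 12 t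

/-- A listed conjugate, or its inverse for `e = 2`. -/
noncomputable def cj (t e i : ℕ) : ℕ :=
  strict (ent t) fun d => strict (uvi (d &&& 31) i) fun y =>
    strict (ndp (Data.reps.getD (d >>> 5) 0) e y) fun w => uvp (d &&& 31) w

/-- The key of a map. -/
noncomputable def keyOf (f : ℕ → ℕ) : ℕ := Data.keyBase.foldl (fun r b => strict (f b) fun y => r <<< 16 + y) 0

/-- The key of entry number `q`. -/
noncomputable def keyAt (q : ℕ) : ℕ := keyOf (cj (q >>> 1) (q % 2 + 1))

theorem ent_ok : allFrom (fun t => Nat.blt (ent t >>> 5) Data.reps.length && Nat.blt (ent t &&& 31) 25) 2080 0 = true := by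
  decide +kernel

theorem key_inj : allFrom (fun p => strict (Data.sortT.get 13 p) fun q => Nat.blt q 4160 &&
    Nat.beq (Data.posK.get 13 q) p &&
    (Nat.beq (p + 1) 4160 || Nat.blt (keyAt q) (keyAt (Data.sortT.get 13 (p + 1))))) 4160 0 = true := by
  decide +kernel

theorem key_onto : allFrom (fun q => strict (Data.posK.get 13 q) fun p => Nat.blt p 4160 &&
    Nat.beq (Data.sortT.get 13 p) q) 4160 0 = true := by
  decide +kernel

theorem rep_link : allFrom (fun r => Nat.blt (Data.reps.getD r 0) (6 + Data.prog.length)) Data.reps.length 0 = true := by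
  decide +kernel

theorem fix_seven : allFrom (fun t => Nat.beq t Data.exc ||
    (strict (keyOf fun i => nd Data.nX (cj t 1 (ndp Data.nX 6 i))) fun k =>
      !(Nat.beq k (keyOf (cj t 1))) && !(Nat.beq k (keyOf (cj t 2))))) 2080 0 = true := by
  decide +kernel

/-- The conjugation of `z` by the node `k` is `z` or its inverse. -/
noncomputable def normB (T : List Tr) (k : ℕ) : Bool :=
  allFrom (fun i => Nat.beq (act T k (nd Data.nZ i)) (nd Data.nZ (act T k i))) 416 0 ||
    allFrom (fun i => Nat.beq (act T k (nd Data.nZ i)) (ndp Data.nZ 2 (act T k i))) 416 0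

theorem norm_ok : (allLin (fun k => normB Data.tab0 k &&
    allFrom (fun i => Nat.beq (act Data.tab0 k i) (nd (Data.normGens.getD k 0) i)) 416 0 &&
    Nat.blt (Data.normGens.getD k 0) (6 + Data.prog.length)) Data.tab0.length 0) = true := by
  decide +kernel

theorem step0 : allFrom (fun i => stepOK Data.tab0 Data.pts0 Data.par0 Data.pos0 Data.tab0.length i) 360 0 = true := by
  decide +kernel

theorem comp0 : allFrom (fun k => compOK Data.tab0 Data.tab1 Data.words0 k) 416 0 = true := by decide +kernel

theorem step1 : allFrom (fun i => stepOK Data.tab1 Data.pts1 Data.par1 Data.pos1 Data.tab1.length i) 168 0 = true := by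
  decide +kernel

theorem comp1 : allFrom (fun k => compOK Data.tab1 Data.tab2 Data.words1 k) 416 0 = true := by decide +kernel

theorem step2 : allFrom (fun i => stepOK Data.tab2 Data.pts2 Data.par2 Data.pos2 Data.tab2.length i) 2 0 = true := by
  decide +kernel

/-- Orbit certificate with nodes as generators: an entry holds rank, parent, generator and class. -/
noncomputable def orbB (gs : List ℕ) (o : Tr) (roots : List ℕ) (i : ℕ) : Bool :=
  strict (o.get 25 i) fun d => strict (d >>> 21) fun c => Nat.blt c roots.length &&
    gs.all (fun g => Nat.beq (o.get 25 (nd g i) >>> 21) c) &&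
    (Nat.beq (roots.getD c 416) i ||
      strict ((d >>> 9) &&& 511) fun p => strict ((d >>> 18) &&& 7) fun x =>
        Nat.blt p 416 && Nat.blt x gs.length && Nat.blt (o.get 25 p &&& 511) (d &&& 511) &&
          Nat.beq (nd (gs.getD x 0) p) i)

/-- The number of points in a class. -/
noncomputable def clsCount (o : Tr) (c : ℕ) : ℕ :=
  Nat.rec 0 (fun i ih => strict ih fun ih => bif Nat.beq (o.get 25 i >>> 21) c then ih + 1 else ih) 416

/-- The check of an item. -/
noncomputable def itemB (it : List ℕ × Tr × List ℕ × List ℕ) : Bool :=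
  it.1.all (fun r => Nat.blt r Data.reps.length) &&
  allFrom (orbB (Data.nU :: Data.nV :: it.1.map (fun r => Data.reps.getD r 0)) it.2.1 it.2.2.1) 416 0 &&
    Nat.beq it.2.2.1.length it.2.2.2.length &&
    allLin (fun c => Nat.beq (clsCount it.2.1 c) (it.2.2.2.getD c 0)) it.2.2.2.length 0 &&
    (it.2.2.2 == [416] || it.2.2.2 == [1, 100, 315] || it.2.2.2 == [100, 1, 315] || it.2.2.2 == [100, 315, 1] ||
      it.2.2.2 == [315, 1, 100] || it.2.2.2 == [315, 100, 1] || it.2.2.2 == [1, 315, 100])

/-- Every representative is in an item alone or is small; two small ones from different clusters share one. -/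
noncomputable def coverB : Bool :=
  (List.range Data.reps.length).all (fun r => Data.items.any (fun it => it.1 == [r]) || Data.small.contains r) &&
  Data.small.all (fun a => Data.small.all fun c => Nat.beq a c || Data.items.any (fun it => it.1 == [a, c] || it.1 == [c, a]) ||
    Data.clusters.any (fun l => l.contains a && l.contains c))

theorem cover_ok : coverB = true := by decide +kernel

/-- Number of entries of a representative. -/
noncomputable def repCount (r : ℕ) : ℕ :=
  Nat.rec 0 (fun t ih => strict ih fun ih => bif Nat.beq (ent t >>> 5) r then ih + 1 else ih) 2080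

theorem small_count : (Data.small.all fun r => Nat.beq (repCount r) 5) = true := by decide +kernel

theorem cluster_shape : (Data.clusters.all fun l => Nat.beq l.length 2) = true := by decide +kernel

end CfsgLib.SuzRecog
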