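import Cfsg.Agent.Lib.CosetEnum.Cert

/-! Generated: each representative as a conjugate. -/

set_option autoImplicit false
set_option linter.all false

namespace CfsgLib.SuzRecog.Data

open CfsgLib.CosetEnum

def chain_0 : List (Nat × Nat × Nat) := [(44, 35, 2), (46, 44, 1), (48, 44, 3), (50, 46, 0), (52, 46, 3), (54, 46, 5), (56, 48, 2), (58, 50, 1), (60, 50, 3), (62, 50, 5), (64, 52, 2), (66, 52, 4), (68, 52, 5), (70, 58, 0), (72, 58, 3), (74, 58, 5), (76, 60, 2), (78, 60, 4), (80, 60, 5), (82, 62, 1), (84, 64, 1), (86, 64, 3), (88, 64, 5), (90, 66, 5), (92, 70, 3), (94, 72, 2), (96, 72, 4), (98, 72, 5), (100, 76, 1), (102, 76, 3), (104, 76, 4), (106, 76, 5), (108, 78, 5), (110, 80, 1), (112, 82, 2), (114, 84, 3), (116, 84, 5), (118, 86, 4), (120, 86, 5), (122, 92, 2), (124, 92, 4), (126, 92, 5), (128, 94, 1), (130, 94, 3), (132, 94, 4), (134, 94, 5), (136, 96, 5), (138, 98, 1), (140, 100, 0), (142, 100, 4), (144, 100, 5), (146, 102, 5), (148, 104, 3), (150, 104, 5), (152,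 106, 1), (154, 108, 1), (156, 110, 0), (158, 110, 2), (160, 112, 3), (162, 114, 5), (164, 118, 5), (166, 120, 1), (168, 122, 1), (170, 122, 3), (172, 122, 4), (174, 122, 5), (176, 124, 5), (178, 126, 1), (180, 128, 0), (182, 128, 3), (184, 128, 4), (186, 128, 5), (188, 130, 4), (190, 130, 5), (192, 132, 3), (194, 132, 5), (196, 136, 1), (198, 138, 2), (200, 140, 1), (202, 140, 3), (204, 140, 4), (206, 142, 3), (208, 142, 5), (210, 144, 1), (212, 146, 1), (214, 148, 5), (216, 150, 1), (218, 152, 2), (220, 154, 0), (222, 154, 2), (224, 156, 1), (226, 158, 3), (228, 160, 2), (230, 164, 1), (232, 166, 0), (234, 166, 2), (236, 168, 0), (238, 168, 3), (240, 168, 5), (242, 170, 4)]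
def chain_1 : List (Nat × Nat × Nat) := [(244, 170, 5), (246, 172, 3), (248, 176, 1), (250, 178, 2), (252, 180, 5), (254, 182, 2), (256, 184, 5), (258, 186, 1), (260, 188, 5), (262, 190, 1), (264, 192, 2), (266, 196, 2), (268, 198, 3), (270, 200, 0), (272, 200, 3), (274, 202, 5), (276, 204, 5), (278, 206, 2), (280, 210, 2), (282, 212, 0), (284, 214, 1), (286, 216, 2), (288, 218, 3), (290, 220, 1), (292, 220, 2), (294, 222, 3), (296, 224, 2), (298, 226, 4), (300, 228, 3), (302, 228, 4), (304, 230, 0), (306, 232, 1), (308, 234, 3), (310, 236, 5), (312, 238, 2), (314, 242, 5), (316, 244, 1), (318, 246, 2), (320, 248, 2), (322, 250, 3), (324, 254, 3), (326, 254, 5), (328, 258, 2), (330, 262, 2), (332, 264, 5), (334, 266, 3), (336, 268, 4), (338, 270, 3), (340, 272, 2), (342, 274, 1), (344, 278, 3), (346, 278, 5), (348, 282, 1), (350, 284, 2), (352, 286, 3), (354, 288, 2), (356, 288, 4), (358, 290, 2), (360, 292, 3), (362, 294, 2), (364, 296, 3), (366, 302, 3), (368, 304, 1), (370,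 306, 2), (372, 312, 5), (374, 316, 2), (376, 318, 5), (378, 324, 4), (380, 334, 2), (382, 334, 4), (384, 338, 2), (386, 340, 5), (388, 342, 2), (390, 344, 5), (392, 348, 2), (394, 352, 2), (396, 360, 2), (398, 366, 2), (400, 368, 2), (402, 370, 3), (404, 378, 5), (406, 384, 1), (408, 406, 3), (410, 408, 2)]
def chain : List (Nat × Nat × Nat) := chain_0 ++ chain_1

end CfsgLib.SuzRecog.Data
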