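import Cfsg.Agent.Lib.SuzRecog.ChecksI1
import Cfsg.Agent.Lib.SuzRecog.ConjData

/-! Kernel checks: the representatives are conjugates. -/

set_option autoImplicit false
set_option maxRecDepth 10000

namespace CfsgLib.SuzRecog

open CfsgLib.CosetEnum

theorem progB_append (L L' : List (ℕ × ℕ)) (k : ℕ) (h : segB L k = true)
    (h' : progB L' (k + L.length) = true) : progB (L ++ L') k = true := by
  induction L generalizing k with
  | nil => simpa using h'
  | cons s L ih =>
    obtain ⟨a, b⟩ := s
    simp only [segB, Bool.and_eq_true] at h
    rw [List.cons_append, progB]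
    simp only [Bool.and_eq_true]
    refine ⟨h.1, ih (k + 1) h.2 ?_⟩
    rwa [List.length_cons, Nat.add_comm L.length 1, ← Nat.add_assoc] at h'

theorem prog_ok : progB Data.prog 6 = true := by
  unfold Data.prog
  simp only [List.append_assoc]
  refine progB_append _ _ _ seg0_ok (progB_append _ _ _ seg1_ok (progB_append _ _ _ seg2_ok
    (progB_append _ _ _ seg3_ok (progB_append _ _ _ seg4_ok ?_))))
  rw [← List.append_nil Data.prog_5]
  refine progB_append _ _ _ seg5_ok ?_
  unfold progB
  simp only [Data.prog, List.length_append, Nat.beq_eq]
  omega

theorem items_ok : Data.items.all itemB = true := by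
  rw [← List.take_append_drop 47 Data.items, List.all_append, items0_ok, items1_ok]
  rfl

/-- The chain check. -/
noncomputable def chainB : List (ℕ × ℕ × ℕ) → List ℕ → Bool
  | [], known => Data.reps.all known.contains
  | (c, p, k) :: rest, known => Nat.blt k 6 && known.contains p && Nat.blt c (6 + Data.prog.length) &&
      allFrom (fun i => Nat.beq (nd c (nd k i)) (nd k (nd p i))) 416 0 && chainB rest (c :: known)

theorem chain_ok : chainB Data.chain [Data.nZ] = true := by decide +kernel

theorem misc_ok : (Nat.blt Data.nU (6 + Data.prog.length) && Nat.blt Data.nV (6 + Data.prog.length) &&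
    Nat.blt Data.nZ (6 + Data.prog.length) && Nat.blt Data.nX (6 + Data.prog.length) &&
    Data.keyBase.all (fun b => Nat.blt b 416) &&
    Data.small.all (fun a => Nat.beq (Data.clusters.countP (fun l => l.contains a)) 1)) = true := by decide +kernel

end CfsgLib.SuzRecog
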