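import Cfsg.Agent.Lib.SuzRecog.ChecksP2

/-! Kernel checks: the items, part 1. -/

set_option autoImplicit false
set_option maxRecDepth 10000

namespace CfsgLib.SuzRecog

open CfsgLib.CosetEnum

theorem items0_ok : (Data.items.take 47).all itemB = true := by decide +kernel

end CfsgLib.SuzRecog
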