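import Cfsg.Agent.Lib.SuzRecog.Checks

/-! Kernel checks: the program, part 1. -/

set_option autoImplicit false
set_option maxRecDepth 10000

namespace CfsgLib.SuzRecog

open CfsgLib.CosetEnum

theorem seg0_ok : segB Data.prog_0 6 = true := by decide +kernel

theorem seg1_ok : segB Data.prog_1 (6 + Data.prog_0.length) = true := by decide +kernel

end CfsgLib.SuzRecog
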