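import Cfsg.Agent.Lib.SuzRecog.ChecksP1

/-! Kernel checks: the program, part 3. -/

set_option autoImplicit false
set_option maxRecDepth 10000

namespace CfsgLib.SuzRecog

open CfsgLib.CosetEnum

theorem seg4_ok : segB Data.prog_4 (6 + Data.prog_0.length + Data.prog_1.length + Data.prog_2.length + Data.prog_3.length) = true := by decide +kernel

theorem seg5_ok : segB Data.prog_5 (6 + Data.prog_0.length + Data.prog_1.length + Data.prog_2.length + Data.prog_3.length + Data.prog_4.length) = true := by decide +kernel

end CfsgLib.SuzRecog
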