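import Cfsg.Agent.Lib.SuzRecog.Nodes

/-! Every conjugate of the element of order three is listed. -/

set_option autoImplicit false
set_option maxRecDepth 10000

namespace CfsgLib.SuzRecog

open CfsgLib.CosetEnum

/-- Elements conjugating `z` to itself or its square. -/
noncomputable def Nz : Subgroup Q := Subgroup.normalizer (Subgroup.zpowers z : Set Q)

theorem mem_zpowers_z {w : Q} (hw : w ∈ Subgroup.zpowers z) : w = 1 ∨ w = z ∨ w = z ^ 2 := by
  have hfin : IsOfFinOrder z := orderOf_pos_iff.1 (by rw [orders.2.2.1]; norm_num)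
  rw [hfin.mem_zpowers_iff_mem_range_orderOf, orders.2.2.1, Finset.mem_image] at hw
  obtain ⟨e, he, rfl⟩ := hw
  rw [Finset.mem_range] at he
  interval_cases e
  · exact Or.inl (pow_zero z)
  · exact Or.inr (Or.inl (pow_one z))
  · exact Or.inr (Or.inr rfl)

theorem z_pow_ne : z ^ 2 ≠ 1 ∧ z ≠ 1 := by
  refine ⟨pow_ne_one_of_lt_orderOf (by norm_num) (by rw [orders.2.2.1]; norm_num), fun h => ?_⟩
  have := orders.2.2.1
  rw [h, orderOf_one] at this
  norm_num at this

theorem mem_Nz {g : Q} (h : g * z * g⁻¹ = z ∨ g * z * g⁻¹ = z ^ 2) : g ∈ Nz := by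
  have hle : (Subgroup.zpowers z).map (MulAut.conj g).toMonoidHom = Subgroup.zpowers z := by
    rw [MonoidHom.map_zpowers]
    rcases h with h | h
    · rw [MulEquiv.coe_toMonoidHom, MulAut.conj_apply, h]
    · rw [MulEquiv.coe_toMonoidHom, MulAut.conj_apply, h]
      refine le_antisymm (Subgroup.zpowers_le.2 (pow_mem (Subgroup.mem_zpowers z) 2)) (Subgroup.zpowers_le.2 ?_)
      have h4 : z ^ 4 = z := by
        rw [← pow_mod_orderOf, orders.2.2.1, pow_one]
      have h5 := pow_mem (Subgroup.mem_zpowers (z ^ 2)) 2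
      rwa [← pow_mul, show 2 * 2 = 4 from rfl, h4] at h5
  rw [Nz, Subgroup.mem_normalizer_iff]
  intro w
  constructor
  · intro hw
    have := Subgroup.mem_map_of_mem (MulAut.conj g).toMonoidHom hw
    rw [hle] at this
    exact this
  · intro hw
    have : g * w * g⁻¹ ∈ (Subgroup.zpowers z).map (MulAut.conj g).toMonoidHom := hle.symm ▸ hw
    obtain ⟨w', hw', e⟩ := this
    have : w' = w := by simpa using e
    exact this ▸ hw'

theorem Nz_realised : Realised Q.subtype Nz Data.tab0 := by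
  intro k hk
  have h := allLin_spec _ _ _ norm_ok k (Nat.zero_le _) (by omega)
  simp only [Bool.and_eq_true, Nat.blt_eq, normB, Bool.or_eq_true] at h
  obtain ⟨⟨hn, hcol⟩, hlt⟩ := h
  set g := el (Data.normGens.getD k 0)
  have hg : ∀ i : Fin 416, ((g.1 i : Fin 416) : ℕ) = act Data.tab0 k i := fun i =>
    (el_apply hlt i).trans (Nat.eq_of_beq_eq_true (allFrom416 hcol i)).symm
  refine ⟨g, mem_Nz ?_, hg⟩
  rcases hn with hn | hn
  · left
    rw [mul_inv_eq_iff_eq_mul]
    refine ext_nat fun i => ?_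
    rw [Subgroup.coe_mul, Subgroup.coe_mul, Equiv.Perm.mul_apply, Equiv.Perm.mul_apply, hg, z,
      el_apply node_lt.2.2.1, el_apply node_lt.2.2.1, hg]
    exact Nat.eq_of_beq_eq_true (allFrom416 hn i)
  · right
    rw [mul_inv_eq_iff_eq_mul]
    refine ext_nat fun i => ?_
    rw [Subgroup.coe_mul, Subgroup.coe_mul, Equiv.Perm.mul_apply, Equiv.Perm.mul_apply, hg, z,
      el_apply node_lt.2.2.1, el_pow node_lt.2.2.1, hg]
    exact Nat.eq_of_beq_eq_true (allFrom416 hn i)

theorem card_Nz : 120960 ≤ Nat.card Nz := by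
  have hf : ∀ {f : ℕ → Bool} {m : ℕ}, allFrom f m 0 = true → ∀ i < m, f i = true :=
    fun h i hi => allFrom_spec _ _ _ h i (Nat.zero_le _) (by omega)
  refine le_trans (le_of_eq (by norm_num : 120960 = 360 * (168 * (2 * 1)))) (le_of_step Q.subtype
    (base_step Q.subtype Nz_realised Data.tab1 Data.words0 Data.pts0 Data.par0 Data.pos0 Data.base0 360
      (by decide) (by decide +kernel) (hf step0) (by decide +kernel) rfl (fun k hk => hf comp0 k hk) (by decide +kernel))
    fun H hfin hr => le_of_step Q.subtype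
      (base_step Q.subtype (K := H) hr Data.tab2 Data.words1 Data.pts1 Data.par1 Data.pos1 Data.base1 168
        (by decide) (by decide +kernel) (hf step1) (by decide +kernel) rfl (fun k hk => hf comp1 k hk) (by decide +kernel))
      fun H hfin hr => le_of_step Q.subtype
        (base_step Q.subtype (K := H) hr [] [] Data.pts2 Data.par2 Data.pos2 Data.base2 2
          (by decide) (by decide +kernel) (hf step2) (by decide +kernel) rfl
          (fun k hk => rfl) (by decide +kernel))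
        fun H hfin hr => Nat.card_pos)

theorem C_conj {t : ℕ} (ht : t < 2080) : ∃ g : Q, C t 1 = g * z * g⁻¹ ∧ C t 2 = g * z ^ 2 * g⁻¹ := by
  obtain ⟨h1, -⟩ := ent_spec ht
  obtain ⟨g, hg⟩ := zr_conj h1
  refine ⟨uv (ent t &&& 31) * g, ?_, ?_⟩
  · rw [C, pow_one, hg]; group
  · rw [C, hg, conj_pow]; group

/-- Every conjugate of `z` is listed, up to inversion. -/
theorem conj_listed (g : Q) : ∃ t < 2080, g * z * g⁻¹ = C t 1 ∨ g * z * g⁻¹ = C t 2 := by
  classical
  set Cl : Set Q := {w | ∃ g : Q, w = g * z * g⁻¹ ∨ w = g * z ^ 2 * g⁻¹}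
  set L : Set Q := (fun p : Fin 2080 × Fin 2 => C p.1 (p.2 + 1)) '' Set.univ
  have hLsub : L ⊆ Cl := by
    rintro _ ⟨⟨t, e⟩, -, rfl⟩
    obtain ⟨g, h1, h2⟩ := C_conj t.2
    fin_cases e
    · exact ⟨g, Or.inl h1⟩
    · exact ⟨g, Or.inr h2⟩
  have hL : L.ncard = 4160 := by
    rw [Set.InjOn.ncard_image]
    · rw [Set.ncard_univ, Nat.card_prod, Nat.card_fin, Nat.card_fin]
    rintro ⟨t, e⟩ - ⟨t', e'⟩ - h
    obtain ⟨h1, h2⟩ := C_inj t.2 t'.2 (by have := e.2; omega) (by have := e'.2; omega) h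
    exact Prod.ext (Fin.ext h1) (Fin.ext (by omega))
  have hCl : Cl.ncard ≤ 4160 := by
    have hidx : Nz.index ≤ 2080 := by
      have h := Nz.card_mul_index
      rw [card_Q] at h
      have := card_Nz
      by_contra hlt
      have := Nat.mul_le_mul this (show 2081 ≤ Nz.index by omega)
      omega
    have hsub : Cl ⊆ (fun p : (Q ⧸ Nz) × Fin 2 => p.1.out * z ^ ((p.2 : ℕ) + 1) * p.1.out⁻¹) '' Set.univ := by
      rintro w ⟨g, hw⟩
      obtain ⟨n, hn⟩ := QuotientGroup.mk_out_eq_mul Nz g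
      have hn' : (n : Q)⁻¹ ∈ Nz := inv_mem n.2
      have key : ∀ e : ℕ, e = 1 ∨ e = 2 → w = g * z ^ e * g⁻¹ →
          w ∈ (fun p : (Q ⧸ Nz) × Fin 2 => p.1.out * z ^ ((p.2 : ℕ) + 1) * p.1.out⁻¹) '' Set.univ := by
        intro e he hwe
        have hm := (Subgroup.mem_normalizer_iff.1 hn' (z ^ e)).1 (pow_mem (Subgroup.mem_zpowers z) e)
        have hne : (n : Q)⁻¹ * z ^ e * (n : Q)⁻¹⁻¹ ≠ 1 := by
          intro h
          rw [mul_inv_eq_one, mul_eq_left] at h
          rcases he with rfl | rfl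
          · exact z_pow_ne.2 (by simpa using h)
          · exact z_pow_ne.1 h
        have hgw : w = (QuotientGroup.mk g : Q ⧸ Nz).out * ((n : Q)⁻¹ * z ^ e * (n : Q)⁻¹⁻¹) *
            (QuotientGroup.mk g : Q ⧸ Nz).out⁻¹ := by rw [hwe, hn]; group
        rcases mem_zpowers_z hm with h | h | h
        · exact absurd h hne
        · exact ⟨(QuotientGroup.mk g, 0), trivial, by rw [hgw, h]; simp⟩
        · exact ⟨(QuotientGroup.mk g, 1), trivial, by rw [hgw, h]; simp⟩
      rcases hw with hw | hw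
      · exact key 1 (Or.inl rfl) (by rw [pow_one]; exact hw)
      · exact key 2 (Or.inr rfl) hw
    refine (Set.ncard_le_ncard hsub).trans ((Set.ncard_image_le (Set.toFinite _)).trans ?_)
    rw [Set.ncard_univ, Nat.card_prod, Nat.card_fin, ← Subgroup.index]
    omega
  have heq : L = Cl := Set.eq_of_subset_of_ncard_le hLsub (by omega) (Set.toFinite _)
  have hmem : g * z * g⁻¹ ∈ L := heq ▸ ⟨g, Or.inl rfl⟩
  obtain ⟨⟨t, e⟩, -, he⟩ := hmem
  refine ⟨t, t.2, ?_⟩
  fin_cases e
  · exact Or.inl he.symm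
  · exact Or.inr he.symm

end CfsgLib.SuzRecog
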