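import Cfsg.Agent.Lib.CosetEnum.Perm

/-! Counting on 416 points. -/

set_option autoImplicit false

namespace CfsgLib.SuzRecog

open CfsgLib.CosetEnum

/-- The number of points below `n` with a property. -/
noncomputable def cntB (f : ℕ → Bool) (n : ℕ) : ℕ :=
  Nat.rec (motive := fun _ => ℕ) 0 (fun i ih => strict ih fun ih => bif f i then ih + 1 else ih) n

theorem cntB_eq (f : ℕ → Bool) : cntB f 416 = (Finset.univ.filter fun i : Fin 416 => f i = true).card := by
  have h : ∀ n, cntB f n = ((Finset.range n).filter fun i => f i = true).card := by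
    intro n
    induction n with
    | zero => rfl
    | succ n ih =>
      show strict (cntB f n) (fun ih => bif f n then ih + 1 else ih) = _
      rw [strict_eq, ih, Finset.range_add_one, Finset.filter_insert]
      cases hf : f n <;> simp
  rw [h, ← Finset.card_image_of_injective _ Fin.val_injective]
  congr 1
  ext i
  simp only [Finset.mem_filter, Finset.mem_range, Finset.mem_image, Finset.mem_univ, true_and]
  exact ⟨fun ⟨h1, h2⟩ => ⟨⟨i, h1⟩, h2, rfl⟩, fun ⟨k, h1, h2⟩ => h2 ▸ ⟨k.2, h1⟩⟩

end CfsgLib.SuzRecog
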