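import Cfsg.Agent.Lib.SuzRecog.Act
import Cfsg.Agent.Lib.SuzRecog.Graph416
import Cfsg.Agent.Lib.SuzRecog.AdjData
import Cfsg.Agent.Lib.SuzRecog.Count416

/-! The group on 416 points preserves the graph; a point stabiliser has three orbits. -/

set_option autoImplicit false
set_option maxRecDepth 10000

namespace CfsgLib.SuzRecog

open CfsgLib.CosetEnum
open CfsgLib.G2FourJTwo (basePt J jLab jRoot)

/-- The check of a row: the list gives the mask and follows the spanning tree. -/
noncomputable def adjRowB (i : ℕ) : Bool :=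
  Nat.beq (Nat.rec (motive := fun _ => ℕ) 0
    (fun k ih => strict ih fun ih => strict (Data.adjL.get 12 (i * 100 + k)) fun y => ih ||| 1 <<< y) 100) (adjM i) &&
  (Nat.beq i Data.base995 ||
    strict (Data.adjPar.get 32 i) fun d => strict ((d >>> 4) &&& 65535) fun p => strict (d &&& 15) fun g =>
      Nat.blt p 416 && Nat.blt g 6 && Nat.blt (Data.adjPar.get 32 p >>> 20) (d >>> 20) && Nat.beq (act Data.gT g p) i &&
        allLin (fun k => strict (Data.adjL.get 12 (p * 100 + k)) fun x => Nat.blt x 416 &&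
          Nat.beq (act Data.gT g x) (Data.adjL.get 12 (i * 100 + k))) 100 0)

theorem adjRow_ok : allFrom adjRowB 416 0 = true := by decide +kernel

theorem base_class : allFrom (fun i => Nat.testBit (adjM Data.base995) i == Nat.beq (jLab.get 20 (Data.embT.get 20 i)) 1)
    416 0 = true := by
  decide +kernel

theorem base_misc : (Nat.beq (Data.embT.get 20 Data.base995) 995 && Nat.beq (jLab.get 20 995) 0 &&
    !(Nat.testBit (adjM Data.base995) Data.base995) && Nat.blt (Data.posT.get 20 (jRoot.get 20 1)) 416 &&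
    Nat.blt (Data.posT.get 20 (jRoot.get 20 2)) 416 && Nat.blt (jRoot.get 20 1) 1782 && Nat.blt (jRoot.get 20 2) 1782 &&
    Nat.beq (jLab.get 20 (jRoot.get 20 1)) 1 && Nat.beq (jLab.get 20 (jRoot.get 20 2)) 2 &&
    allFrom (fun i => Nat.blt (jLab.get 20 (Data.embT.get 20 i)) 3) 416 0 &&
    Nat.beq (cntB (fun i => Nat.beq (jLab.get 20 (Data.embT.get 20 i)) 1) 416) 100) = true := by
  decide +kernel

/-- The base point on 416 points. -/
def b995 : Fin 416 := ⟨Data.base995, by decide⟩

theorem misc_spec : Data.embT.get 20 Data.base995 = 995 ∧ jLab.get 20 995 = 0 ∧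
    ¬ gadj b995 b995 ∧ (∀ i : Fin 416, jLab.get 20 (emb i : Fin 1782) < 3) := by
  have h := base_misc
  simp only [Bool.and_eq_true, Nat.beq_eq, Bool.not_eq_true'] at h
  refine ⟨h.1.1.1.1.1.1.1.1.1.1, h.1.1.1.1.1.1.1.1.1.2, by simp [gadj, b995, h.1.1.1.1.1.1.1.1.2], fun i => ?_⟩
  exact Nat.le_of_ble_eq_true (allFrom_spec _ _ _ h.1.2 i (Nat.zero_le _) (by omega))

theorem emb_b995 : emb b995 = basePt := Fin.ext misc_spec.1

theorem exists_J_map {i j : Fin 416} (h : jLab.get 20 (emb i : Fin 1782) = jLab.get 20 (emb j : Fin 1782)) :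
    ∃ z : Suz.H, σ z b995 = b995 ∧ σ z i = j := by
  set c := jLab.get 20 (emb i : Fin 1782) with hc
  have key : ∀ k : Fin 416, jLab.get 20 (emb k : Fin 1782) = c →
      ∃ z : Suz.H, σ z b995 = b995 ∧ Suz.π (z : Cfsg.Spor.Suz) (emb k) =
        if c = 1 then ⟨jRoot.get 20 1 % 1782, Nat.mod_lt _ (by norm_num)⟩
        else if c = 2 then ⟨jRoot.get 20 2 % 1782, Nat.mod_lt _ (by norm_num)⟩ else basePt := by
    intro k hk
    have hlt := misc_spec.2.2.2 k
    rw [hk] at hlt
    have h := base_misc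
    simp only [Bool.and_eq_true, Nat.beq_eq, Nat.blt_eq] at h
    have hb : basePt.val = 995 := rfl
    have root : ∀ r : Fin 1782, jLab.get 20 r = c → jRoot.get 20 c = r →
        ∃ z : Suz.H, σ z b995 = b995 ∧ Suz.π (z : Cfsg.Spor.Suz) (emb k) = r := by
      intro r h1 h2
      have ho := orbit_class Suz.π J CfsgLib.G2FourJTwo.jTable CfsgLib.G2FourJTwo.J_spec.1 CfsgLib.G2FourJTwo.J_spec.2
        jLab CfsgLib.G2FourJTwo.jPar jRoot (CfsgLib.G2FourJTwo.of_allFrom CfsgLib.G2FourJTwo.jRows) r c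
        (by rw [Nat.beq_eq]; exact h1) (by rw [Nat.beq_eq]; exact h2)
      obtain ⟨w, hw, hwk⟩ := (Set.ext_iff.1 ho (emb k)).2 hk
      refine ⟨⟨w⁻¹, inv_mem (CfsgLib.G2FourJTwo.J_le_H hw)⟩, emb_injective ?_, ?_⟩
      · rw [σ_spec, emb_b995]
        exact CfsgLib.G2FourJTwo.J_fix (inv_mem hw)
      · show Suz.π w⁻¹ (emb k) = r
        rw [map_inv, Equiv.Perm.inv_def, Equiv.symm_apply_eq, hwk]
    by_cases c1 : c = 1
    · rw [if_pos c1]
      refine root _ ?_ ?_
      · show jLab.get 20 (jRoot.get 20 1 % 1782) = c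
        rw [c1, Nat.mod_eq_of_lt h.1.1.1.1.1.2]; exact h.1.1.1.2
      · show jRoot.get 20 c = jRoot.get 20 1 % 1782
        rw [c1, Nat.mod_eq_of_lt h.1.1.1.1.1.2]
    rw [if_neg c1]
    by_cases c2 : c = 2
    · rw [if_pos c2]
      refine root _ ?_ ?_
      · show jLab.get 20 (jRoot.get 20 2 % 1782) = c
        rw [c2, Nat.mod_eq_of_lt h.1.1.1.1.2]; exact h.1.1.2
      · show jRoot.get 20 c = jRoot.get 20 2 % 1782
        rw [c2, Nat.mod_eq_of_lt h.1.1.1.1.2]
    rw [if_neg c2]
    have c0 : c = 0 := by omega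
    have h' := CfsgLib.G2FourJTwo.of_allFrom CfsgLib.G2FourJTwo.jLab_zero _ (emb k).2
    rw [hk, c0] at h'
    simp only [Nat.beq_refl, Bool.not_true, Bool.false_or, Nat.beq_eq] at h'
    exact ⟨1, by simp, by rw [Subgroup.coe_one, map_one, Equiv.Perm.one_apply]; exact Fin.ext (h'.trans hb.symm)⟩
  obtain ⟨z1, a1, b1⟩ := key i rfl
  obtain ⟨z2, a2, b2⟩ := key j h.symm
  have hz : σ z2⁻¹ b995 = b995 := by rw [map_inv, Equiv.Perm.inv_def, Equiv.symm_apply_eq, a2]
  refine ⟨z2⁻¹ * z1, by rw [map_mul, Equiv.Perm.mul_apply, a1, hz], emb_injective ?_⟩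
  rw [σ_spec, Subgroup.coe_mul, map_mul, Equiv.Perm.mul_apply, b1, Subgroup.coe_inv, map_inv, Equiv.Perm.inv_def,
    Equiv.symm_apply_eq, b2]

theorem exists_sigma_map (i : Fin 416) : ∃ z : Suz.H, σ z b995 = i := exists_emb_image i

theorem gadj_base (i : Fin 416) : gadj b995 i ↔ jLab.get 20 (emb i : Fin 1782) = 1 := by
  have h := allFrom_spec _ _ _ base_class i (Nat.zero_le _) (by omega)
  rw [beq_iff_eq] at h
  unfold gadj
  rw [show ((b995 : Fin 416) : ℕ) = Data.base995 from rfl, h, Nat.beq_eq]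
  rfl

theorem mem_adj_list {i j : Fin 416} : gadj i j ↔ ∃ k < 100, Data.adjL.get 12 ((i : ℕ) * 100 + k) = j := by
  have h := allFrom_spec _ _ _ adjRow_ok i (Nat.zero_le _) (by omega)
  unfold adjRowB at h
  simp only [Bool.and_eq_true, Nat.beq_eq] at h
  unfold gadj
  rw [← h.1]
  have key : ∀ m, (Nat.rec (motive := fun _ => ℕ) 0
      (fun k ih => strict ih fun ih => strict (Data.adjL.get 12 ((i : ℕ) * 100 + k)) fun y => ih ||| 1 <<< y) m).testBit j = true
      ↔ ∃ k < m, Data.adjL.get 12 ((i : ℕ) * 100 + k) = j := by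
    intro m
    induction m with
    | zero => simp
    | succ m ih =>
      show (strict _ fun ih => strict _ fun y => ih ||| 1 <<< y).testBit j = true ↔ _
      rw [strict_eq, strict_eq, Nat.testBit_or, Bool.or_eq_true, ih, Nat.one_shiftLeft, Nat.testBit_two_pow,
        decide_eq_true_eq]
      constructor
      · rintro (⟨k, h1, h2⟩ | h)
        exacts [⟨k, by omega, h2⟩, ⟨m, by omega, h⟩]
      · rintro ⟨k, h1, h2⟩
        rcases Nat.lt_succ_iff_lt_or_eq.1 h1 with h | rfl
        exacts [Or.inl ⟨k, h, h2⟩, Or.inr h2]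
  exact key 100

theorem exists_row (i : Fin 416) : ∃ z : Suz.H, σ z b995 = i ∧ ∀ j, gadj i (σ z j) ↔ gadj b995 j := by
  suffices h : ∀ r, ∀ i : Fin 416, Data.adjPar.get 32 i >>> 20 ≤ r →
      ∃ z : Suz.H, σ z b995 = i ∧ ∀ j, gadj i (σ z j) ↔ gadj b995 j from h _ i le_rfl
  intro r
  induction r using Nat.strong_induction_on with
  | _ r ih =>
    intro i hi
    have h := allFrom_spec _ _ _ adjRow_ok i (Nat.zero_le _) (by omega)
    unfold adjRowB at h
    simp only [strict_eq, Bool.and_eq_true, Bool.or_eq_true, Nat.beq_eq, Nat.blt_eq] at h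
    rcases h.2 with hb | ⟨⟨⟨⟨hp, hg⟩, hr⟩, hgp⟩, hlist⟩
    · refine ⟨1, by rw [map_one]; exact Fin.ext hb.symm, fun j => ?_⟩
      rw [show i = b995 from Fin.ext hb, map_one, Equiv.Perm.one_apply]
    · obtain ⟨z, hz, hzadj⟩ := ih _ (lt_of_lt_of_le hr hi) ⟨_, hp⟩ le_rfl
      obtain ⟨y, hy⟩ := exists_gen hg
      refine ⟨y * z, by rw [map_mul, Equiv.Perm.mul_apply, hz]; exact Fin.ext ((hy _).trans hgp), fun j => ?_⟩
      rw [← hzadj, map_mul, Equiv.Perm.mul_apply, mem_adj_list, mem_adj_list]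
      refine exists_congr fun k => and_congr_right fun hk => ?_
      have h' := allLin_spec _ _ _ hlist k (Nat.zero_le _) (by omega)
      simp only [strict_eq, Bool.and_eq_true, Nat.beq_eq, Nat.blt_eq] at h'
      obtain ⟨hx, he⟩ := h'
      rw [← he, show act Data.gT _ _ = _ from (hy ⟨_, hx⟩).symm, Fin.val_inj, (σ y).apply_eq_iff_eq, Fin.ext_iff]

theorem sigma_mem_autA (z : Suz.H) : σ z ∈ autA := by
  intro i j
  obtain ⟨y, hy, hyadj⟩ := exists_row i
  obtain ⟨y', hy', hyadj'⟩ := exists_row (σ z i)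
  obtain ⟨l, rfl⟩ := (σ y).surjective j
  set w := y'⁻¹ * z * y with hw
  have hwb : σ w b995 = b995 := by
    rw [hw, map_mul, map_mul, Equiv.Perm.mul_apply, Equiv.Perm.mul_apply, hy, map_inv, Equiv.Perm.inv_def,
      Equiv.symm_apply_eq, hy']
  have hwl : σ z (σ y l) = σ y' (σ w l) := by
    rw [hw, map_mul, map_mul, Equiv.Perm.mul_apply, Equiv.Perm.mul_apply, map_inv, Equiv.Perm.inv_def,
      Equiv.apply_symm_apply]
  have hwJ : (w : Cfsg.Spor.Suz) ∈ J := by
    rw [(CfsgLib.G2FourJTwo.J_eq_K).1]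
    refine Subgroup.mem_inf.2 ⟨w.2, CfsgLib.G2FourJTwo.mem_stab.2 ?_⟩
    rw [← emb_b995, ← σ_spec, hwb]
  rw [hwl, hyadj', hyadj, gadj_base, gadj_base, σ_spec, CfsgLib.G2FourJTwo.jLab_invariant hwJ]

/-- The sizes of the suborbits. -/
theorem class_sizes : (Finset.univ.filter fun i : Fin 416 => jLab.get 20 (emb i : Fin 1782) = 1).card = 100 := by
  have h := base_misc
  simp only [Bool.and_eq_true, Nat.beq_eq] at h
  refine Eq.trans ?_ h.2
  rw [cntB_eq]
  congr 1

/-- An invariant irreflexive relation has one of four valencies; for valency 100 it is the graph. -/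
theorem rel_classify (R : Fin 416 → Fin 416 → Prop) [DecidableRel R] (hinv : ∀ (z : Suz.H) i j, R (σ z i) (σ z j) ↔ R i j)
    (hirr : ∀ i, ¬ R i i) :
    ((Finset.univ.filter (R b995)).card = 0 ∨ (Finset.univ.filter (R b995)).card = 100 ∨
      (Finset.univ.filter (R b995)).card = 315 ∨ (Finset.univ.filter (R b995)).card = 415) ∧
    ((Finset.univ.filter (R b995)).card = 100 → ∀ i j, R i j ↔ gadj i j) := by
  classical
  have hst : ∀ i j, jLab.get 20 (emb i : Fin 1782) = jLab.get 20 (emb j : Fin 1782) → R b995 i → R b995 j := by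
    intro i j h hi
    obtain ⟨z, h1, h2⟩ := exists_J_map h
    rw [← hinv z, h1, h2] at hi
    exact hi
  set C : ℕ → Finset (Fin 416) := fun c => Finset.univ.filter fun i => jLab.get 20 (emb i : Fin 1782) = c with hC
  have h0 : C 0 = {b995} := by
    ext i
    simp only [hC, Finset.mem_filter, Finset.mem_univ, true_and, Finset.mem_singleton]
    refine ⟨fun h => emb_injective ?_, fun h => ?_⟩
    · have h' := CfsgLib.G2FourJTwo.of_allFrom CfsgLib.G2FourJTwo.jLab_zero _ (emb i).2
      rw [h] at h'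
      simp only [Nat.beq_refl, Bool.not_true, Bool.false_or, Nat.beq_eq] at h'
      rw [emb_b995]; exact Fin.ext h'
    · rw [h, emb_b995]; exact misc_spec.2.1
  have hcard : (C 0).card = 1 ∧ (C 1).card = 100 ∧ (C 2).card = 315 := by
    refine ⟨by rw [h0]; rfl, class_sizes, ?_⟩
    have hsum := Finset.card_eq_sum_card_fiberwise (s := (Finset.univ : Finset (Fin 416))) (t := Finset.range 3)
      (f := fun i : Fin 416 => jLab.get 20 (emb i : Fin 1782)) (fun i _ => Finset.mem_range.2 (misc_spec.2.2.2 i))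
    rw [Finset.card_univ, Fintype.card_fin, Finset.sum_range_succ, Finset.sum_range_succ, Finset.sum_range_succ,
      Finset.sum_range_zero] at hsum
    have e0 : (C 0).card = 1 := by rw [h0]; rfl
    have e1 : (C 1).card = 100 := class_sizes
    change 416 = 0 + (C 0).card + (C 1).card + (C 2).card at hsum
    omega
  have hN : Finset.univ.filter (R b995) = (if (∃ i ∈ C 1, R b995 i) then C 1 else ∅) ∪
      (if (∃ i ∈ C 2, R b995 i) then C 2 else ∅) := by
    ext i
    simp only [Finset.mem_filter, Finset.mem_univ, true_and, Finset.mem_union]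
    constructor
    · intro hi
      have h3 := misc_spec.2.2.2 i
      have hne : jLab.get 20 (emb i : Fin 1782) ≠ 0 := fun h => by
        have : i ∈ C 0 := by simp [hC, h]
        rw [h0, Finset.mem_singleton] at this
        exact hirr _ (this ▸ hi)
      rcases (by omega : jLab.get 20 (emb i : Fin 1782) = 1 ∨ jLab.get 20 (emb i : Fin 1782) = 2) with h | h
      · left; rw [if_pos ⟨i, by simp [hC, h], hi⟩]; simp [hC, h]
      · right; rw [if_pos ⟨i, by simp [hC, h], hi⟩]; simp [hC, h]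
    · rintro (hi | hi) <;> split_ifs at hi with h <;>
        first
        | (exact absurd hi (Finset.notMem_empty _))
        | (obtain ⟨j, hj, hRj⟩ := h; simp only [hC, Finset.mem_filter, Finset.mem_univ, true_and] at hi hj
           exact hst j i (hj.trans hi.symm) hRj)
  have hd : Disjoint (C 1) (C 2) := Finset.disjoint_left.2 fun i h1 h2 => by
    simp only [hC, Finset.mem_filter, Finset.mem_univ, true_and] at h1 h2
    omega
  constructor
  · rw [hN]
    split_ifs <;> simp [Finset.card_union_of_disjoint hd, hcard.2.1, hcard.2.2]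
  · intro h100 i j
    have hbase : ∀ k, R b995 k ↔ gadj b995 k := by
      intro k
      rw [gadj_base]
      have hm := Finset.ext_iff.1 hN k
      rw [hN] at h100
      simp only [Finset.mem_filter, Finset.mem_univ, true_and] at hm
      rw [hm]
      split_ifs at h100 ⊢ <;>
        simp_all [Finset.card_union_of_disjoint hd, hcard.2.1, hcard.2.2]
    obtain ⟨z, rfl⟩ := exists_sigma_map i
    have hj : σ z (σ z⁻¹ j) = j := by rw [map_inv, Equiv.Perm.inv_def, Equiv.apply_symm_apply]
    conv_lhs => rw [← hj, hinv, hbase]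
    conv_rhs => rw [← hj, sigma_mem_autA z]

end CfsgLib.SuzRecog
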