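import Cfsg.Agent.Lib.SuzRecog.Act
import Cfsg.Agent.Lib.SuzRecog.Graph416
import Cfsg.Agent.Lib.SuzRecog.UData
import Cfsg.Agent.Lib.SuzRecog.Count416
import Mathlib.GroupTheory.Sylow
import Mathlib.Data.Nat.Bitwise

/-! A two-group with five orbits on 416 points, and the invariant sets of size 96. -/

set_option autoImplicit false
set_option maxRecDepth 10000

namespace CfsgLib.SuzRecog

open CfsgLib.CosetEnum

/-- Image of a point under a node of the program for the two-group. -/
noncomputable def un (k i : ℕ) : ℕ := Data.uT.get 12 (k * 416 + i)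

/-- The program check. -/
noncomputable def uProgB : List (ℕ × ℕ) → ℕ → Bool
  | [], k => Nat.beq k (6 + Data.uProg.length)
  | (a, b) :: rest, k => Nat.blt a k && Nat.blt b k &&
      allFrom (fun i => Nat.beq (un k i) (un a (un b i))) 416 0 && uProgB rest (k + 1)

theorem uNode0_ok : allFrom (fun i => allLin (fun k => Nat.beq (un k i) (act Data.gT k i)) 6 0) 416 0 = true := by
  decide +kernel

theorem uProg_ok : uProgB Data.uProg 6 = true := by decide +kernel

/-- A generator. -/
noncomputable def ug (k i : ℕ) : ℕ := un (Data.uGens.getD k 0) i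

/-- A product of the first `k` generators selected by bits. -/
noncomputable def uMon (m k : ℕ) : ℕ → ℕ :=
  Nat.rec (motive := fun _ => ℕ → ℕ) (fun i => i)
    (fun t ih i => strict (bif Nat.testBit m t then ug t i else i) fun j => ih j) k

/-- A power of a generator. -/
noncomputable def ugp (k e i : ℕ) : ℕ :=
  Nat.rec (motive := fun _ => ℕ) i (fun _ ih => strict ih fun j => ug k j) e

theorem uGroup_ok : allLin (fun k => Nat.blt (Data.uGens.getD k 0) (6 + Data.uProg.length) &&
    allFrom (fun i => Nat.beq (ugp k 16 i) i) 416 0 &&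
    allLin (fun j => allFrom (fun i => Nat.beq (ug k (ug j i)) (uMon ((Data.uExp.getD k []).getD j 0) k (ug k i))) 416 0)
      k 0) 12 0 = true := by
  decide +kernel

/-- The class of a point. -/
noncomputable def ucl (i : ℕ) : ℕ := Data.uCls.get 32 i >>> 26

/-- The rank of a point in its class. -/
noncomputable def urk (i : ℕ) : ℕ := (Data.uCls.get 32 i >>> 14) &&& 4095

theorem uOrb_ok : allFrom (fun i => strict (Data.uCls.get 32 i) fun d => Nat.blt (ucl i) 5 &&
    (Nat.beq (Data.uRoots.getD (ucl i) 0) i ||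
      strict ((d >>> 4) &&& 1023) fun p => strict (d &&& 15) fun k => Nat.blt p 416 && Nat.blt k 12 &&
        Nat.blt (urk p) (urk i) && Nat.beq (ucl p) (ucl i) && Nat.beq (ug k p) i)) 416 0 = true := by
  decide +kernel

theorem uSel_ok : allLin (fun sel => !(Nat.beq (cntB (fun i => Nat.testBit sel (ucl i)) 416) 96) ||
    Data.cands.any fun m => allFrom (fun i => Nat.testBit m i == Nat.testBit sel (ucl i)) 416 0) 32 0 = true := by
  decide +kernel

theorem uNode_mem {m : ℕ} (hm : m < 6 + Data.uProg.length) :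
    ∃ z : Suz.H, ∀ i : Fin 416, ((σ z i : Fin 416) : ℕ) = un m i := by
  suffices key : ∀ (L : List (ℕ × ℕ)) (k : ℕ),
      (∀ m < k, ∃ z : Suz.H, ∀ i : Fin 416, ((σ z i : Fin 416) : ℕ) = un m i) →
      uProgB L k = true → ∀ m < 6 + Data.uProg.length, ∃ z : Suz.H, ∀ i : Fin 416, ((σ z i : Fin 416) : ℕ) = un m i by
    refine key Data.uProg 6 (fun k hk => ?_) uProg_ok m hm
    obtain ⟨z, hz⟩ := exists_gen hk
    refine ⟨z, fun i => (hz i).trans ?_⟩
    exact (Nat.eq_of_beq_eq_true (allLin_spec _ _ _ (allFrom_spec _ _ _ uNode0_ok i (Nat.zero_le _) (by omega)) k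
      (Nat.zero_le _) (by omega))).symm
  intro L
  induction L with
  | nil =>
    intro k hk h m hm
    rw [uProgB] at h
    exact hk m (by rw [Nat.eq_of_beq_eq_true h]; exact hm)
  | cons s L ih =>
    obtain ⟨a, b⟩ := s
    intro k hk h
    unfold uProgB at h
    simp only [Bool.and_eq_true] at h
    obtain ⟨⟨⟨ha, hb⟩, heq⟩, hrest⟩ := h
    refine ih (k + 1) (fun m hm => ?_) hrest
    rcases Nat.lt_succ_iff_lt_or_eq.1 hm with h' | rfl
    · exact hk m h'
    obtain ⟨za, hza⟩ := hk a (Nat.le_of_ble_eq_true ha)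
    obtain ⟨zb, hzb⟩ := hk b (Nat.le_of_ble_eq_true hb)
    refine ⟨za * zb, fun i => ?_⟩
    rw [map_mul, Equiv.Perm.mul_apply, hza, hzb,
      Nat.eq_of_beq_eq_true (allFrom_spec _ _ _ heq i (Nat.zero_le _) (by omega))]

open Classical in
/-- A generator of the two-group. -/
noncomputable def uel (k : ℕ) : Suz.H :=
  if h : Data.uGens.getD k 0 < 6 + Data.uProg.length then (uNode_mem h).choose else 1

theorem uGroup_spec {k : ℕ} (hk : k < 12) : (∀ i : Fin 416, ((σ (uel k) i : Fin 416) : ℕ) = ug k i) ∧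
    (∀ i : Fin 416, ugp k 16 i = i) ∧ ∀ j < k, ∀ i : Fin 416,
      ug k (ug j i) = uMon ((Data.uExp.getD k []).getD j 0) k (ug k i) := by
  have h := allLin_spec _ _ _ uGroup_ok k (Nat.zero_le _) (by omega)
  simp only [Bool.and_eq_true, Nat.blt_eq] at h
  obtain ⟨⟨h1, h2⟩, h3⟩ := h
  refine ⟨fun i => ?_, fun i => Nat.eq_of_beq_eq_true (allFrom_spec _ _ _ h2 i (Nat.zero_le _) (by omega)),
    fun j hj i => Nat.eq_of_beq_eq_true
      (allFrom_spec _ _ _ (allLin_spec _ _ _ h3 j (Nat.zero_le _) (by omega)) i (Nat.zero_le _) (by omega))⟩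
  rw [uel, dif_pos h1]
  exact (uNode_mem h1).choose_spec i

/-- The group of the first `k` generators. -/
noncomputable def Uk (k : ℕ) : Subgroup Suz.H := Subgroup.closure (uel '' {j | j < k})

theorem uel_mem {j k : ℕ} (h : j < k) : uel j ∈ Uk k := Subgroup.subset_closure ⟨j, h, rfl⟩

theorem sigma_ext {a b : Suz.H} (h : ∀ i : Fin 416, ((σ a i : Fin 416) : ℕ) = ((σ b i : Fin 416) : ℕ)) : a = b :=
  σ_injective (Equiv.ext fun i => Fin.ext (h i))

theorem exists_mon (m : ℕ) : ∀ k, k ≤ 12 →
    ∃ w ∈ Uk k, ∀ i : Fin 416, ((σ w i : Fin 416) : ℕ) = uMon m k i := by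
  intro k
  induction k with
  | zero => exact fun _ => ⟨1, one_mem _, fun i => by rw [map_one]; rfl⟩
  | succ k ih =>
    intro hk
    obtain ⟨w, hw, he⟩ := ih (by omega)
    have hle : Uk k ≤ Uk (k + 1) := Subgroup.closure_mono (Set.image_mono fun j (hj : j < k) => Nat.lt_succ_of_lt hj)
    have hstep : ∀ i : ℕ, uMon m (k + 1) i = uMon m k (bif Nat.testBit m k then ug k i else i) := fun i => by
      show strict _ (fun j => uMon m k j) = _
      rw [strict_eq]
    cases hb : Nat.testBit m k
    · exact ⟨w, hle hw, fun i => by rw [hstep, hb, cond_false, he]⟩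
    · refine ⟨w * uel k, mul_mem (hle hw) (uel_mem (Nat.lt_succ_self k)), fun i => ?_⟩
      rw [map_mul, Equiv.Perm.mul_apply, hstep, hb, cond_true, he, (uGroup_spec (by omega : k < 12)).1]

theorem Uk_pgroup : ∀ k, k ≤ 12 → IsPGroup 2 (Uk k) := by
  intro k
  induction k with
  | zero =>
    intro _
    have : Uk 0 = ⊥ := by simp [Uk, Subgroup.closure_eq_bot_iff]
    rw [this]; exact IsPGroup.of_bot
  | succ k ih =>
    intro hk
    obtain ⟨hug, hpow, hconj⟩ := uGroup_spec (by omega : k < 12)
    have hsplit : Uk (k + 1) = Uk k ⊔ Subgroup.zpowers (uel k) := by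
      rw [Uk, Uk, Subgroup.zpowers_eq_closure, ← Subgroup.closure_union]
      congr 1
      ext w
      simp only [Set.mem_image, Set.mem_union, Set.mem_singleton_iff, Set.mem_ofPred_eq]
      constructor
      · rintro ⟨j, hj, rfl⟩
        rcases Nat.lt_succ_iff_lt_or_eq.1 hj with h | rfl
        exacts [Or.inl ⟨j, h, rfl⟩, Or.inr rfl]
      · rintro (⟨j, hj, rfl⟩ | rfl)
        exacts [⟨j, by omega, rfl⟩, ⟨k, by omega, rfl⟩]
    rw [hsplit]
    refine IsPGroup.to_sup_of_normal_left' (ih (by omega)) ?_ (Subgroup.zpowers_le.2 ?_)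
    · have h16 : uel k ^ (2 ^ 4) = 1 := by
        refine sigma_ext fun i => ?_
        have hp : ∀ e, ∀ i : Fin 416, ((σ (uel k ^ e) i : Fin 416) : ℕ) = ugp k e i := by
          intro e
          induction e with
          | zero => intro i; rw [pow_zero, map_one]; rfl
          | succ e ihe =>
            intro i
            rw [pow_succ', map_mul, Equiv.Perm.mul_apply, hug, ihe]
            show ug k (ugp k e i) = strict (ugp k e i) (fun j => ug k j)
            rw [strict_eq]
        rw [hp, map_one, Equiv.Perm.one_apply]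
        exact hpow i
      intro w
      refine ⟨4, ?_⟩
      obtain ⟨e, he⟩ := Subgroup.mem_zpowers_iff.1 w.2
      refine Subtype.ext ?_
      rw [Subgroup.coe_pow, ← he, ← zpow_natCast, ← zpow_mul, mul_comm, zpow_mul, zpow_natCast, h16, one_zpow]
      rfl
    · have hgen : ∀ w ∈ Uk k, uel k * w * (uel k)⁻¹ ∈ Uk k := by
        intro w hw
        have hle : Uk k ≤ (Uk k).comap (MulAut.conj (uel k)).toMonoidHom := by
          refine (Subgroup.closure_le _).2 ?_
          rintro _ ⟨j, hj, rfl⟩
          obtain ⟨v, hv, he⟩ := exists_mon ((Data.uExp.getD k []).getD j 0) k (by omega)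
          show uel k * uel j * (uel k)⁻¹ ∈ Uk k
          suffices e : uel k * uel j = v * uel k by rw [e, mul_inv_cancel_right]; exact hv
          refine sigma_ext fun i => ?_
          have hj' : j < k := hj
          rw [map_mul, map_mul, Equiv.Perm.mul_apply, Equiv.Perm.mul_apply, hug,
            (uGroup_spec (by omega : j < 12)).1, he, hug]
          exact hconj j hj' i
        exact hle hw
      rw [Subgroup.mem_normalizer_iff]
      refine fun w => ⟨hgen w, fun h => ?_⟩
      have hfin : Finite (Uk k) := inferInstance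
      let f : Uk k → Uk k := fun x => ⟨uel k * x.1 * (uel k)⁻¹, hgen _ x.2⟩
      have hf : Function.Injective f := fun x y e => Subtype.ext (by simpa [f] using congrArg Subtype.val e)
      obtain ⟨x, hx⟩ := (Finite.injective_iff_surjective.1 hf) ⟨_, h⟩
      have : x.1 = w := by simpa [f] using congrArg Subtype.val hx
      exact this ▸ x.2

/-- The two-group. -/
noncomputable abbrev U : Subgroup Suz.H := Uk 12

theorem exists_conj_U (M : Subgroup Suz.H) (hM : M.index = 1365) : ∃ g : Suz.H, ∀ w ∈ U, g * w * g⁻¹ ∈ M := by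
  have : Fact (Nat.Prime 2) := ⟨Nat.prime_two⟩
  have : Finite Suz.H := Nat.finite_of_card_ne_zero (by rw [Suz.card_H]; norm_num)
  obtain ⟨P, hP⟩ := (Uk_pgroup 12 le_rfl).exists_le_sylow
  obtain ⟨R⟩ : Nonempty (Sylow 2 M) := inferInstance
  set R' : Subgroup Suz.H := (R : Subgroup M).map M.subtype
  have hp2 : IsPGroup 2 R' := R.2.map _
  obtain ⟨S, hS⟩ := hp2.exists_le_sylow
  have hcard : Nat.card (S : Subgroup Suz.H) ≤ Nat.card R' := by
    rw [Subgroup.card_map_of_injective M.subtype_injective, Sylow.card_eq_multiplicity, Sylow.card_eq_multiplicity]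
    have h := M.card_mul_index
    rw [hM, Suz.card_H] at h
    have hMc : Nat.card M = 184320 := by omega
    rw [hMc, Suz.card_H]
    have e1 : Nat.factorization 251596800 2 = 12 := by
      rw [Nat.factorization_def _ Nat.prime_two, show (251596800 : ℕ) = 2 ^ 12 * 61425 by norm_num,
        padicValNat.mul (by norm_num) (by norm_num), padicValNat.prime_pow, padicValNat.eq_zero_of_not_dvd (by norm_num)]
    have e2 : Nat.factorization 184320 2 = 12 := by
      rw [Nat.factorization_def _ Nat.prime_two, show (184320 : ℕ) = 2 ^ 12 * 45 by norm_num,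
        padicValNat.mul (by norm_num) (by norm_num), padicValNat.prime_pow, padicValNat.eq_zero_of_not_dvd (by norm_num)]
    rw [e1, e2]
  have hSR : R' = (S : Subgroup Suz.H) := Subgroup.eq_of_le_of_card_ge hS hcard
  obtain ⟨g, hg⟩ := MulAction.exists_smul_eq Suz.H P S
  refine ⟨g, fun w hw => ?_⟩
  have : g * w * g⁻¹ ∈ R' := by
    rw [hSR, ← hg, Sylow.coe_subgroup_smul, Subgroup.pointwise_smul_def]
    exact ⟨w, hP hw, rfl⟩
  obtain ⟨r, -, e⟩ := this
  exact e ▸ r.2

theorem cand_of_invariant (S : Finset (Fin 416)) (hS : S.card = 96) (hinv : ∀ w ∈ U, ∀ i ∈ S, σ w i ∈ S) :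
    ∃ m ∈ Data.cands, S = maskSet m := by
  classical
  have key : ∀ i : Fin 416, ucl i < 5 ∧ ((Data.uRoots.getD (ucl i) 0 = i) ∨ ∃ (p : Fin 416) (k : ℕ),
      urk p < urk i ∧ ucl p = ucl i ∧ k < 12 ∧ ug k p = i) := by
    intro i
    have h := allFrom_spec _ _ _ uOrb_ok i (Nat.zero_le _) (by omega)
    simp only [strict_eq, Bool.and_eq_true, Bool.or_eq_true, Nat.blt_eq, Nat.beq_eq] at h
    refine ⟨h.1, h.2.imp id ?_⟩
    rintro ⟨⟨⟨⟨h1, h2⟩, h3⟩, h4⟩, h5⟩
    exact ⟨⟨_, h1⟩, _, h3, h4, h2, h5⟩
  set sel : ℕ := Nat.ofBits fun c : Fin 5 => decide (∃ i ∈ S, ucl i = c)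
  have hsel : sel < 32 := Nat.ofBits_lt_two_pow _
  have hmem : ∀ i : Fin 416, i ∈ S ↔ Nat.testBit sel (ucl i) = true := by
    have hroot : ∀ r, ∀ i j : Fin 416, urk i ≤ r → ucl i = ucl j → (j : ℕ) = Data.uRoots.getD (ucl i) 0 → (i ∈ S ↔ j ∈ S) := by
      intro r
      induction r with
      | zero =>
        intro i j hr hc hj
        rcases (key i).2 with h | ⟨p, k, h1, -⟩
        · rw [Fin.ext (h.symm.trans hj.symm) (a := i) (b := j)]
        · omega
      | succ r ih =>
        intro i j hr hc hj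
        rcases (key i).2 with h | ⟨p, k, h1, h2, h3, h4⟩
        · rw [Fin.ext (h.symm.trans hj.symm) (a := i) (b := j)]
        · have he : σ (uel k) p = i := Fin.ext (((uGroup_spec h3).1 p).trans h4)
          have hiff : i ∈ S ↔ p ∈ S := by
            refine ⟨fun h => ?_, fun h => he ▸ hinv _ (uel_mem h3) p h⟩
            have := hinv _ (inv_mem (uel_mem h3)) i h
            rwa [← he, map_inv, Equiv.Perm.inv_def, Equiv.symm_apply_apply] at this
          rw [hiff]
          exact ih p j (by omega) (h2.trans hc) (by rw [h2]; exact hj)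
    intro i
    rw [Nat.testBit_ofBits, dif_pos (key i).1, decide_eq_true_eq]
    refine ⟨fun h => ⟨i, h, rfl⟩, fun ⟨j, hj, hc⟩ => ?_⟩
    obtain ⟨r, hr⟩ : ∃ r : Fin 416, (r : ℕ) = Data.uRoots.getD (ucl i) 0 ∧ ucl r = ucl i := by
      have : ∀ m, ∀ i : Fin 416, urk i ≤ m → ∃ r : Fin 416, (r : ℕ) = Data.uRoots.getD (ucl i) 0 ∧ ucl r = ucl i := by
        intro m
        induction m with
        | zero =>
          intro i hi
          rcases (key i).2 with h | ⟨p, k, h1, -⟩
          · exact ⟨i, h.symm, rfl⟩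
          · omega
        | succ m ih =>
          intro i hi
          rcases (key i).2 with h | ⟨p, k, h1, h2, -⟩
          · exact ⟨i, h.symm, rfl⟩
          · obtain ⟨r, e1, e2⟩ := ih p (by omega); exact ⟨r, by rw [e1, h2], e2.trans h2⟩
      exact this _ i le_rfl
    have hc' : ucl j = ucl i := hc
    rw [hroot _ i r le_rfl hr.2.symm hr.1, ← hroot _ j r le_rfl (hc'.trans hr.2.symm) (by rw [hc']; exact hr.1)]
    exact hj
  have h := allLin_spec _ _ _ uSel_ok sel (Nat.zero_le _) (by omega)
  have hc : cntB (fun i => Nat.testBit sel (ucl i)) 416 = 96 := by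
    rw [cntB_eq, ← hS]; congr 1; ext i; simp [hmem]
  rw [hc] at h
  simp only [Nat.beq_refl, Bool.not_true, Bool.false_or, List.any_eq_true] at h
  obtain ⟨m, hm, he⟩ := h
  refine ⟨m, hm, ?_⟩
  ext i
  have := allFrom_spec _ _ _ he i (Nat.zero_le _) (by omega)
  rw [beq_iff_eq] at this
  rw [mem_maskSet, hmem, this]

end CfsgLib.SuzRecog
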