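import Cfsg.Agent.Lib.SuzRecog.Psd
import Cfsg.Agent.Lib.SuzRecog.Model416
import Cfsg.Agent.Lib.SuzRecog.U
import Cfsg.Agent.Lib.SuzRecog.GramData

/-! Three of the candidate neighbourhoods give a vector of negative norm. -/

set_option autoImplicit false
set_option maxRecDepth 10000

namespace CfsgLib.SuzRecog

open CfsgLib.CosetEnum
open scoped Classical

theorem ucl_inv : allLin (fun k => allFrom (fun i => Nat.beq (ucl (ug k i)) (ucl i)) 416 0) 12 0 = true := by
  decide +kernel

/-- The weight of a point. -/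
noncomputable def wgt (wl : List ℤ) (i : ℕ) : ℤ := wl.getD (ucl i) 0

/-- The sum of a function on 416 points. -/
noncomputable def sumZ (f : ℕ → ℤ) : ℤ := Nat.rec (motive := fun _ => ℤ) 0 (fun i ih => ih + f i) 416

/-- The weighted number of neighbours. -/
noncomputable def nbW (wl : List ℤ) (i : ℕ) : ℤ :=
  strict (adjM i) fun a => sumZ fun j => bif Nat.testBit a j then wgt wl j else 0

/-- The norm of the vector. -/
noncomputable def gramV (m : ℕ) (v : ℤ × ℤ × List ℤ) : ℤ :=
  let p := v.1; let q := v.2.1; let wl := v.2.2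
  let g := (List.range 5).map fun c => nbW wl (Data.uRoots.getD c 0)
  let W := sumZ (wgt wl)
  let WS := sumZ fun i => bif Nat.testBit m i then wgt wl i else 0
  p * (180 * p - 9 * W + 2 * (p + q + W)) + q * (180 * q - 9 * WS + 2 * (p + q + W)) +
    sumZ fun i => wgt wl i * (180 * wgt wl i - 9 * (p + (bif Nat.testBit m i then q else 0) + g.getD (ucl i) 0) +
      2 * (p + q + W))

theorem gram_neg : allLin (fun j => decide (gramV (Data.cands.getD (j + 1) 0) (Data.negVecs.getD j (0, 0, [])) < 0)) 3 0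
    = true := by
  decide +kernel

theorem sumZ_eq (f : ℕ → ℤ) : sumZ f = ∑ i : Fin 416, f i := by
  rw [Fin.sum_univ_eq_sum_range f]
  have h : ∀ n, Nat.rec (motive := fun _ => ℤ) 0 (fun i ih => ih + f i) n = ∑ i ∈ Finset.range n, f i := by
    intro n
    induction n with
    | zero => simp
    | succ n ih => rw [Finset.sum_range_succ, ← ih]
  exact h 416

theorem class_const {α : Type*} (F : ℕ → α) (hF : ∀ k < 12, ∀ i : Fin 416, F (ug k i) = F i) (i : Fin 416) :
    F i = F (Data.uRoots.getD (ucl i) 0) := by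
  suffices h : ∀ r, ∀ i : Fin 416, urk i ≤ r → F i = F (Data.uRoots.getD (ucl i) 0) from h _ i le_rfl
  intro r
  induction r with
  | zero =>
    intro i hr
    have h := allFrom_spec _ _ _ uOrb_ok i (Nat.zero_le _) (by omega)
    simp only [strict_eq, Bool.and_eq_true, Bool.or_eq_true, Nat.blt_eq, Nat.beq_eq] at h
    rcases h.2 with h' | h'
    · rw [h']
    · omega
  | succ r ih =>
    intro i hr
    have h := allFrom_spec _ _ _ uOrb_ok i (Nat.zero_le _) (by omega)
    simp only [strict_eq, Bool.and_eq_true, Bool.or_eq_true, Nat.blt_eq, Nat.beq_eq] at h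
    rcases h.2 with h' | ⟨⟨⟨⟨h1, h2⟩, h3⟩, h4⟩, h5⟩
    · rw [h']
    · set p := (Data.uCls.get 32 i >>> 4) &&& 1023
      have := ih ⟨p, h1⟩ (by show urk p ≤ r; omega)
      rw [← h5, hF _ h2 ⟨p, h1⟩, this]
      show F (Data.uRoots.getD (ucl p) 0) = _
      rw [h5, h4]

variable {Ω : Type*} [Fintype Ω]

/-- A candidate with a negative vector is not a neighbourhood. -/
theorem cand_not {Γ : SimpleGraph Ω} (hs : Γ.IsSRGWith 1782 416 100 96) {a x : Ω} {f : Fin 416 → Ω}
    (finj : Function.Injective f) (hfA : ∀ i, Γ.Adj a (f i)) (hadj : ∀ i j, Γ.Adj (f i) (f j) ↔ gadj i j)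
    (hxa : x ≠ a) (hx : ¬ Γ.Adj a x) {j : ℕ} (hj : j < 3)
    (hnb : ∀ i : Fin 416, Γ.Adj x (f i) ↔ (Data.cands.getD (j + 1) 0).testBit i = true) : False := by
  set m := Data.cands.getD (j + 1) 0
  set v := Data.negVecs.getD j (0, 0, [])
  have hneg : gramV m v < 0 := of_decide_eq_true (allLin_spec _ _ _ gram_neg j (Nat.zero_le _) (by omega))
  obtain ⟨p, q, wl⟩ := v
  set w : Fin 416 → ℤ := fun i => wgt wl i
  set z : Ω → ℤ := fun y => (if y = a then p else 0) + (if y = x then q else 0) + ∑ i, if f i = y then w i else 0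
  have hlin : ∀ h : Ω → ℤ, ∑ y, z y * h y = p * h a + q * h x + ∑ i, w i * h (f i) := by
    intro h
    simp only [z, add_mul, Finset.sum_add_distrib, ite_mul, zero_mul, Finset.sum_ite_eq', Finset.mem_univ, if_true]
    congr 1
    simp only [Finset.sum_mul, ite_mul, zero_mul]
    rw [Finset.sum_comm]
    simp
  have hfa : ∀ i, f i ≠ a := fun i e => (hfA i).ne e.symm
  have hfx : ∀ i, f i ≠ x := fun i e => hx (e ▸ hfA i)
  have za : z a = p := by simp [z, hfa, Ne.symm hxa]
  have zx : z x = q := by simp [z, hfx, hxa]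
  have zf : ∀ i, z (f i) = w i := fun i => by simp [z, hfa, hfx, finj.eq_iff]
  set W : ℤ := ∑ i, w i
  have hT : ∑ y, z y = p + q + W := by simpa using hlin fun _ => 1
  have hA : ∑ u, z u * (if Γ.Adj a u then 1 else 0) = W := by
    rw [hlin]; simp [hfA, hx, W]
  have hX : ∑ u, z u * (if Γ.Adj x u then 1 else 0) = ∑ i : Fin 416, bif m.testBit i then w i else 0 := by
    rw [hlin]
    rw [if_neg (fun h : Γ.Adj x a => hx h.symm), if_neg (Γ.irrefl (v := x)), mul_zero, mul_zero, add_zero, zero_add]
    refine Finset.sum_congr rfl fun i _ => ?_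
    by_cases h : Γ.Adj x (f i)
    · rw [if_pos h, (hnb i).1 h]; simp
    · rw [if_neg h]
      have : m.testBit i = false := by simpa using mt (hnb i).2 h
      rw [this]; simp
  have hg : ∀ i : Fin 416, nbW wl i = nbW wl (Data.uRoots.getD (ucl i) 0) := by
    refine class_const (nbW wl) fun k hk i => ?_
    simp only [nbW, strict_eq, sumZ_eq]
    obtain ⟨hu, -, -⟩ := uGroup_spec hk
    refine (Fintype.sum_equiv (σ (uel k)) _ _ fun l => ?_).symm
    have h1 : ucl (σ (uel k) l : Fin 416).val = ucl l := by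
      rw [hu]
      exact Nat.eq_of_beq_eq_true (allFrom_spec _ _ _ (allLin_spec _ _ _ ucl_inv k (Nat.zero_le _) (by omega)) l
        (Nat.zero_le _) (by omega))
    have h2 := sigma_mem_autA (uel k) i l
    unfold gadj at h2
    rw [hu i] at h2
    unfold wgt
    rw [h1, Bool.eq_iff_iff.2 h2]
  have hF : ∀ i : Fin 416, ∑ u, z u * (if Γ.Adj (f i) u then 1 else 0) =
      p + (bif m.testBit i then q else 0) + nbW wl i := by
    intro i
    rw [hlin, if_pos (hfA i).symm, mul_one]
    congr 1
    · congr 1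
      by_cases h : Γ.Adj x (f i)
      · rw [if_pos h.symm, (hnb i).1 h]; simp
      · rw [if_neg (fun h' => h h'.symm)]
        have : m.testBit i = false := by simpa using mt (hnb i).2 h
        rw [this]; simp
    · rw [nbW, strict_eq, sumZ_eq]
      refine Finset.sum_congr rfl fun l _ => ?_
      by_cases h : Γ.Adj (f i) (f l)
      · rw [if_pos h, mul_one, show (adjM i).testBit l = true from (hadj i l).1 h]; rfl
      · rw [if_neg h, mul_zero]
        have : (adjM i).testBit l = false := by simpa [gadj] using mt (hadj i l).2 h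
        rw [this]; rfl
  have h0 := wmat_nonneg hs z
  rw [show dotProduct z (Matrix.mulVec (wmat Γ) z) = ∑ y, z y * Matrix.mulVec (wmat Γ) z y from rfl, hlin] at h0
  simp only [wmat_mulVec, za, zx, zf, hA, hX, hF, hT] at h0
  have hr : ∀ i : Fin 416, ((List.range 5).map fun c => nbW wl (Data.uRoots.getD c 0)).getD (ucl i) 0 = nbW wl i := by
    intro i
    have h5 : ucl i < 5 := by
      have h := allFrom_spec _ _ _ uOrb_ok i (Nat.zero_le _) (by omega)
      simp only [strict_eq, Bool.and_eq_true, Nat.blt_eq] at h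
      exact h.1
    rw [List.getD_eq_getElem _ _ (by simpa using h5)]
    simp [hg i]
  simp only [gramV, sumZ_eq, hr] at hneg
  exact absurd h0 (not_le.2 hneg)

end CfsgLib.SuzRecog
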