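import Cfsg.Agent.Lib.SuzRecog.Count
import Mathlib.GroupTheory.PGroup
import Mathlib.GroupTheory.Perm.Cycle.Type

/-! A subgroup of order 604800 of the group on 416 points fixes a point. -/

set_option autoImplicit false
set_option maxRecDepth 10000

namespace CfsgLib.SuzRecog

open CfsgLib.CosetEnum

/-! ### Counting -/

theorem nat_rec_count (f : ℕ → Bool) (n : ℕ) :
    (Nat.rec 0 (fun i ih => strict ih fun ih => bif f i then ih + 1 else ih) n : ℕ) =
      ((Finset.range n).filter fun i => f i = true).card := by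
  induction n with
  | zero => rfl
  | succ n ih =>
    show strict _ (fun ih => bif f n then ih + 1 else ih) = _
    rw [strict_eq, ih, Finset.range_add_one, Finset.filter_insert]
    by_cases h : f n = true
    · rw [h, cond_true, if_pos rfl, Finset.card_insert_of_notMem (by simp)]
    · simp only [Bool.not_eq_true] at h
      simp [h]

theorem clsCount_eq (o : Tr) (c : ℕ) :
    clsCount o c = ((Finset.range 416).filter fun i => o.get 25 i >>> 21 = c).card := by
  rw [clsCount, nat_rec_count]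
  congr 1
  exact Finset.filter_congr fun i _ => by rw [Nat.beq_eq]

theorem repCount_eq (r : ℕ) :
    repCount r = ((Finset.range 2080).filter fun t => ent t >>> 5 = r).card := by
  rw [repCount, nat_rec_count]
  congr 1
  exact Finset.filter_congr fun i _ => by rw [Nat.beq_eq]

/-! ### Orbit certificates -/

/-- Class sizes such that every admissible union of classes around a chosen class is a single point. -/
def goodSizes (l : List ℕ) : Bool :=
  decide (∃ c0 ∈ Finset.range l.length, l.getD c0 0 ≠ 0 ∧ ∀ S ∈ (Finset.range l.length).powerset, c0 ∈ S →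
    (∑ c ∈ S, l.getD c 0) ∣ 604800 → (∑ c ∈ S, l.getD c 0) = 1)

theorem good_list : ([[416], [1, 100, 315], [100, 1, 315], [100, 315, 1], [315, 1, 100], [315, 100, 1],
    [1, 315, 100]].all goodSizes) = true := by decide +kernel

theorem orbit_fixed (M : Subgroup Q) (hM : Nat.card M = 604800) (gs : List ℕ) (o : Tr) (roots sizes : List ℕ)
    (hgs : ∀ g ∈ gs, g < 6 + Data.prog.length ∧ el g ∈ M)
    (horb : allFrom (orbB gs o roots) 416 0 = true) (hlen : roots.length = sizes.length)
    (hcnt : allLin (fun c => Nat.beq (clsCount o c) (sizes.getD c 0)) sizes.length 0 = true)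
    (hgood : goodSizes sizes = true) : ∃ i : Fin 416, ∀ m, m ∈ M → m.1 i = i := by
  classical
  set cl : ℕ → ℕ := fun i => o.get 25 i >>> 21 with hcl
  have hrow : ∀ i : Fin 416, cl i < roots.length ∧ (∀ g ∈ gs, cl (nd g i) = cl i) ∧
      (roots.getD (cl i) 416 = i ∨ ∃ p : Fin 416, o.get 25 p &&& 511 < o.get 25 i &&& 511 ∧
        ∃ g ∈ gs, nd g p = i) := by
    intro i
    have h := allFrom416 horb i
    simp only [orbB, strict_eq, Bool.and_eq_true, Bool.or_eq_true, List.all_eq_true, Nat.blt_eq, Nat.beq_eq] at h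
    obtain ⟨⟨h1, h2⟩, h3⟩ := h
    refine ⟨h1, h2, h3.imp id ?_⟩
    rintro ⟨⟨⟨hp, hx⟩, hlt⟩, he⟩
    exact ⟨⟨_, hp⟩, hlt, _, by rw [List.getD_eq_getElem _ _ hx]; exact List.getElem_mem hx, he⟩
  have hreach : ∀ i : Fin 416, ∃ r : Fin 416, (r : ℕ) = roots.getD (cl i) 416 ∧ cl r = cl i ∧
      ∃ m ∈ M, m.1 r = i := by
    intro i
    induction hd : o.get 25 i &&& 511 using Nat.strong_induction_on generalizing i with
    | _ d ih =>
      rcases (hrow i).2.2 with h | ⟨p, hp, g, hg, he⟩
      · exact ⟨i, h.symm, rfl, 1, M.one_mem, rfl⟩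
      · obtain ⟨r, hr1, hr2, m, hm, hmr⟩ := ih _ (hd ▸ hp) p rfl
        have hpi : cl i = cl p := by rw [← he]; exact (hrow p).2.1 g hg
        refine ⟨r, by rw [hpi]; exact hr1, by rw [hpi]; exact hr2, el g * m, M.mul_mem (hgs g hg).2 hm, ?_⟩
        apply Fin.ext
        rw [Subgroup.coe_mul, Equiv.Perm.mul_apply, hmr, el_apply (hgs g hg).1, he]
  have hcard : ∀ c < sizes.length, (Finset.univ.filter fun i : Fin 416 => cl i = c).card = sizes.getD c 0 := by
    intro c hc
    have h := allLin_spec _ _ _ hcnt c (Nat.zero_le _) (by omega)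
    rw [Nat.beq_eq, clsCount_eq] at h
    rw [← h]
    refine Finset.card_bij (fun i _ => (i : ℕ)) (fun i hi => ?_) (fun _ _ _ _ e => Fin.ext e) fun j hj => ?_
    · simp only [Finset.mem_filter, Finset.mem_univ, true_and] at hi
      simpa [Finset.mem_filter, Finset.mem_range] using hi
    · simp only [Finset.mem_filter, Finset.mem_range] at hj
      exact ⟨⟨j, hj.1⟩, by simpa [Finset.mem_filter] using hj.2, rfl⟩
  obtain ⟨c0, hc0, hne, hS⟩ := of_decide_eq_true hgood
  rw [Finset.mem_range] at hc0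
  obtain ⟨i0, hi0⟩ : (Finset.univ.filter fun i : Fin 416 => cl i = c0).Nonempty := by
    rw [← Finset.card_pos, hcard c0 hc0]; omega
  simp only [Finset.mem_filter, Finset.mem_univ, true_and] at hi0
  obtain ⟨r0, hr0, hr0c, -⟩ := hreach i0
  -- the orbit
  set O : Finset (Fin 416) := Finset.univ.filter fun j => ∃ m ∈ M, m.1 r0 = j with hO
  have hOfull : ∀ i ∈ O, ∀ j : Fin 416, cl j = cl i → j ∈ O := by
    intro i hi j hj
    simp only [hO, Finset.mem_filter, Finset.mem_univ, true_and] at hi ⊢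
    obtain ⟨m, hm, hmi⟩ := hi
    obtain ⟨r, hr1, -, a, ha, hai⟩ := hreach i
    obtain ⟨r', hr1', -, b, hb, hbj⟩ := hreach j
    obtain rfl : r' = r := Fin.ext (by rw [hr1', hr1, hj])
    refine ⟨b * a⁻¹ * m, M.mul_mem (M.mul_mem hb (M.inv_mem ha)) hm, ?_⟩
    rw [Subgroup.coe_mul, Subgroup.coe_mul, Subgroup.coe_inv, Equiv.Perm.mul_apply, Equiv.Perm.mul_apply, hmi]
    rw [show a.1⁻¹ i = r' by rw [Equiv.Perm.inv_def, Equiv.symm_apply_eq, hai], hbj]
  have hr0O : r0 ∈ O := by
    simp only [hO, Finset.mem_filter, Finset.mem_univ, true_and]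
    exact ⟨1, M.one_mem, rfl⟩
  set S := O.image fun i : Fin 416 => cl i with hSdef
  have hSsub : S ∈ (Finset.range sizes.length).powerset := Finset.mem_powerset.2 fun c hc => by
    obtain ⟨i, -, rfl⟩ := Finset.mem_image.1 hc
    exact Finset.mem_range.2 (hlen ▸ (hrow i).1)
  have hsum : O.card = ∑ c ∈ S, sizes.getD c 0 := by
    rw [Finset.card_eq_sum_card_image (fun i : Fin 416 => cl i) O]
    refine Finset.sum_congr rfl fun c hc => ?_
    rw [← hcard c (Finset.mem_range.1 (Finset.mem_powerset.1 hSsub hc))]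
    congr 1
    obtain ⟨i, hi, rfl⟩ := Finset.mem_image.1 hc
    ext j
    simp only [Finset.mem_filter, Finset.mem_univ, true_and, and_iff_right_iff_imp]
    exact hOfull i hi j
  have hdvd : O.card ∣ 604800 := by
    letI : MulAction M (Fin 416) := MulAction.compHom (Fin 416) (Q.subtype.comp M.subtype)
    have h := (MulAction.stabilizer M r0).index_dvd_card
    rw [MulAction.index_stabilizer, hM] at h
    have e : MulAction.orbit M r0 = ↑O := by
      ext j
      simp only [hO, Finset.coe_filter, Finset.mem_univ, true_and, Set.mem_ofPred_eq]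
      exact ⟨fun ⟨m, hm⟩ => ⟨m.1, m.2, hm⟩, fun ⟨m, hm, hmj⟩ => ⟨⟨m, hm⟩, hmj⟩⟩
    rwa [e, Set.ncard_coe_finset] at h
  have h1 : O.card = 1 := by
    rw [hsum] at hdvd ⊢
    exact hS S hSsub (Finset.mem_image.2 ⟨r0, hr0O, hr0c.trans hi0⟩) hdvd
  refine ⟨r0, fun m hm => ?_⟩
  obtain ⟨a, ha⟩ := Finset.card_eq_one.1 h1
  have h2 : m.1 r0 ∈ O := by
    simp only [hO, Finset.mem_filter, Finset.mem_univ, true_and]
    exact ⟨m, hm, rfl⟩
  rw [ha, Finset.mem_singleton] at h2 hr0O
  rw [h2, hr0O]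

/-- An item whose representatives all lie in `M` gives a fixed point. -/
theorem item_fixed (M : Subgroup Q) (hM : Nat.card M = 604800) (hP : P25 ≤ M)
    {it : List ℕ × Tr × List ℕ × List ℕ} (hit : it ∈ Data.items) (hmem : ∀ r ∈ it.1, zr r ∈ M) :
    ∃ i : Fin 416, ∀ m, m ∈ M → m.1 i = i := by
  have h := List.all_eq_true.1 items_ok it hit
  simp only [itemB, Bool.and_eq_true, Bool.or_eq_true, beq_iff_eq, List.all_eq_true, Nat.blt_eq] at h
  obtain ⟨⟨⟨⟨hr, horb⟩, hlen⟩, hcnt⟩, hsz⟩ := h
  refine orbit_fixed M hM _ it.2.1 it.2.2.1 it.2.2.2 (fun g hg => ?_) horb (Nat.eq_of_beq_eq_true hlen) hcnt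
    (List.all_eq_true.1 good_list _ (by simp only [List.mem_cons, List.not_mem_nil, or_false]; tauto))
  simp only [List.mem_cons, List.mem_map] at hg
  rcases hg with rfl | rfl | ⟨r, hr', rfl⟩
  · exact ⟨node_lt.1, hP u_mem⟩
  · exact ⟨node_lt.2.1, hP v_mem⟩
  · exact ⟨Nat.le_of_ble_eq_true (allFrom_spec _ _ _ rep_link r (Nat.zero_le _)
      (by have := hr r hr'; omega)), hmem r hr'⟩

/-! ### The action on the listed subgroups of order three -/

theorem z_cube : z ^ 3 = 1 := by rw [← orders.2.2.1, pow_orderOf_eq_one]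

theorem C_sq {t : ℕ} (ht : t < 2080) : C t 1 * C t 1 = C t 2 ∧ C t 2 * C t 2 = C t 1 := by
  obtain ⟨g, h1, h2⟩ := C_conj ht
  have h4 : z ^ 2 * z ^ 2 = z := by rw [← pow_add, show 2 + 2 = 3 + 1 from rfl, pow_succ, z_cube, one_mul]
  constructor
  · rw [h1, h2, pow_two]; group
  · rw [h2, h1]
    calc g * z ^ 2 * g⁻¹ * (g * z ^ 2 * g⁻¹) = g * (z ^ 2 * z ^ 2) * g⁻¹ := by group
      _ = _ := by rw [h4]

theorem exists_img (g : Q) (t : Fin 2080) :
    ∃ t' : Fin 2080, g * C t 1 * g⁻¹ = C t' 1 ∨ g * C t 1 * g⁻¹ = C t' 2 := by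
  obtain ⟨k, hk, -⟩ := C_conj t.2
  obtain ⟨t', ht', h⟩ := conj_listed (g * k)
  have e : g * C t 1 * g⁻¹ = g * k * z * (g * k)⁻¹ := by rw [hk]; group
  exact ⟨⟨t', ht'⟩, by rw [e]; exact h⟩

/-- The image of an index. -/
noncomputable def img (g : Q) (t : Fin 2080) : Fin 2080 := (exists_img g t).choose

theorem img_spec (g : Q) (t : Fin 2080) :
    g * C t 1 * g⁻¹ = C (img g t) 1 ∨ g * C t 1 * g⁻¹ = C (img g t) 2 := (exists_img g t).choose_spec

theorem img_unique {g : Q} {t t' : Fin 2080} (h : g * C t 1 * g⁻¹ = C t' 1 ∨ g * C t 1 * g⁻¹ = C t' 2) :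
    img g t = t' := by
  apply Fin.ext
  rcases img_spec g t with h1 | h1 <;> rcases h with h2 | h2 <;>
    exact (C_inj (img g t).2 t'.2 (by simp) (by simp) (h1.symm.trans h2)).1

theorem img_mul (a b : Q) (t : Fin 2080) : img (a * b) t = img a (img b t) := by
  refine img_unique ?_
  rw [show a * b * C t 1 * (a * b)⁻¹ = a * (b * C t 1 * b⁻¹) * a⁻¹ by group]
  rcases img_spec b t with h | h <;> rcases img_spec a (img b t) with h' | h'
  · exact Or.inl (by rw [h, h'])
  · exact Or.inr (by rw [h, h'])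
  all_goals
    have e : a * (C (img b t) 2) * a⁻¹ = a * C (img b t) 1 * a⁻¹ * (a * C (img b t) 1 * a⁻¹) := by
      rw [← (C_sq (img b t).2).1]; group
    rw [h, e, h']
  · exact Or.inr (C_sq (img a (img b t)).2).1
  · exact Or.inl (C_sq (img a (img b t)).2).2

theorem img_one (t : Fin 2080) : img 1 t = t := img_unique (Or.inl (by rw [one_mul, inv_one, mul_one]))

/-- The action on the list. -/
noncomputable def act2080 : Q →* Equiv.Perm (Fin 2080) where
  toFun g :=
    { toFun := img g
      invFun := img g⁻¹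
      left_inv := fun t => by rw [← img_mul, inv_mul_cancel, img_one]
      right_inv := fun t => by rw [← img_mul, mul_inv_cancel, img_one] }
  map_one' := Equiv.ext img_one
  map_mul' a b := Equiv.ext (img_mul a b)

theorem act2080_apply (g : Q) (t : Fin 2080) : act2080 g t = img g t := rfl

theorem x_moves {t : Fin 2080} (ht : (t : ℕ) ≠ Data.exc) : img x t ≠ t := by
  intro h
  have hk := allFrom_spec _ _ _ fix_seven t (Nat.zero_le _) (by omega)
  simp only [Bool.or_eq_true, Nat.beq_eq, strict_eq, Bool.and_eq_true, Bool.not_eq_true'] at hk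
  obtain ⟨hk1, hk2⟩ := hk.resolve_left ht
  have hx6 : x⁻¹ = x ^ 6 := by
    refine inv_eq_of_mul_eq_one_right ?_
    rw [← pow_succ', show 6 + 1 = 7 from rfl, ← orders.2.2.2, pow_orderOf_eq_one]
  have e : keyQ (x * C t 1 * x⁻¹) = keyOf fun i => nd Data.nX (cj t 1 (ndp Data.nX 6 i)) := by
    refine keyOf_congr fun b hb => ?_
    simp only [dif_pos (base_lt hb)]
    rw [hx6, Subgroup.coe_mul, Subgroup.coe_mul, Equiv.Perm.mul_apply, Equiv.Perm.mul_apply, x,
      el_apply node_lt.2.2.2, C_apply t.2, el_pow node_lt.2.2.2]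
  rcases img_spec x t with h' | h' <;> rw [h] at h' <;> rw [h', keyQ_C t.2] at e
  · exact Nat.ne_of_beq_eq_false hk1 e.symm
  · exact Nat.ne_of_beq_eq_false hk2 e.symm

open Classical in
/-- The indices of the listed subgroups inside `M`. -/
noncomputable def inside (M : Subgroup Q) : Finset (Fin 2080) := Finset.univ.filter fun t : Fin 2080 => C t 1 ∈ M

theorem mem_inside {M : Subgroup Q} {t : Fin 2080} : t ∈ inside M ↔ C t 1 ∈ M := by simp [inside]

theorem C_two_mem {M : Subgroup Q} {t : ℕ} (ht : t < 2080) (h : C t 2 ∈ M) : C t 1 ∈ M := by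
  rw [← (C_sq ht).2]; exact mul_mem h h

/-- Conjugating a subgroup moves its list. -/
theorem inside_map (M : Subgroup Q) (g : Q) :
    inside (M.map (MulAut.conj g).toMonoidHom) = (inside M).map (act2080 g).toEmbedding := by
  ext t
  rw [Finset.mem_map_equiv, mem_inside, mem_inside, Subgroup.mem_map_equiv, MulAut.conj_symm_apply]
  have hsymm : (act2080 g).symm t = img g⁻¹ t := rfl
  rw [hsymm]
  rcases img_spec g⁻¹ t with h | h <;> rw [inv_inv] at h <;> rw [h]
  constructor
  · exact C_two_mem (img g⁻¹ t).2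
  · intro h'
    rw [← (C_sq (img g⁻¹ t).2).1]
    exact mul_mem h' h'

/-- A subgroup containing `x` has a list of size at most one modulo seven. -/
theorem inside_mod_seven (M : Subgroup Q) (hx : x ∈ M) : (inside M).card % 7 ≤ 1 := by
  classical
  have : Fact (Nat.Prime 7) := ⟨by norm_num⟩
  have hst : ∀ t, t ∈ inside M ↔ act2080 x t ∈ inside M := by
    intro t
    have hm : M.map (MulAut.conj x).toMonoidHom = M := by
      ext w
      rw [Subgroup.mem_map_equiv, MulAut.conj_symm_apply]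
      constructor
      · intro h
        have := mul_mem (mul_mem hx h) (inv_mem hx)
        rwa [show x * (x⁻¹ * w * x) * x⁻¹ = w by group] at this
      · exact fun h => mul_mem (mul_mem (inv_mem hx) h) hx
    conv_rhs => rw [← hm, inside_map]
    rw [Finset.mem_map_equiv, Equiv.symm_apply_apply]
  set f : Equiv.Perm {t // t ∈ inside M} := (act2080 x).subtypePerm (fun t => (hst t).symm) with hf
  have h7 : f ^ 7 ^ 1 = 1 := by
    rw [pow_one, hf, Equiv.Perm.subtypePerm_pow]
    ext t
    have hx7 : x ^ 7 = 1 := by rw [← orders.2.2.2, pow_orderOf_eq_one]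
    simp [← map_pow, hx7]
  have h := Equiv.Perm.card_compl_support_modEq h7
  rw [Fintype.card_coe] at h
  have hle : (f.supportᶜ).card ≤ 1 := by
    refine Finset.card_le_one.2 fun a ha b hb => ?_
    rw [Finset.mem_compl, Equiv.Perm.notMem_support] at ha hb
    have key : ∀ a : {t // t ∈ inside M}, f a = a → (a.1 : ℕ) = Data.exc := fun a ha => by
      by_contra hne
      exact x_moves hne (congrArg Subtype.val ha)
    exact Subtype.ext (Fin.ext ((key a ha).trans (key b hb).symm))
  rw [← h]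
  exact (Nat.mod_le _ _).trans hle

/-! ### The theorem -/

theorem index_eq (M : Subgroup Q) (hM : Nat.card M = 604800) : M.index = 416 := by
  have h := M.card_mul_index
  rw [hM, card_Q] at h
  omega

theorem exists_conj_le {p : ℕ} [Fact p.Prime] (P M : Subgroup Q) (hM : Nat.card M = 604800) (hP : IsPGroup p P)
    (hp : ¬ p ∣ 416) : ∃ g : Q, ∀ a ∈ P, g⁻¹ * a * g ∈ M := by
  have hq : Nat.card (Q ⧸ M) = 416 := index_eq M hM
  have hne : (MulAction.fixedPoints P (Q ⧸ M)).Nonempty :=
    hP.nonempty_fixed_point_of_prime_not_dvd_card (Q ⧸ M) (by rwa [hq])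
  obtain ⟨c, hc⟩ := hne
  induction c using QuotientGroup.induction_on with
  | H g =>
    refine ⟨g, fun a ha => ?_⟩
    have h : ((a * g : Q) : Q ⧸ M) = (g : Q ⧸ M) := hc ⟨a, ha⟩
    have h' := inv_mem (QuotientGroup.eq.1 h)
    rwa [show ((a * g)⁻¹ * g)⁻¹ = g⁻¹ * a * g by group] at h'

theorem isPGroup_zpowers {p : ℕ} [Fact p.Prime] {w : Q} (h : orderOf w = p) :
    IsPGroup p (Subgroup.zpowers w) := IsPGroup.of_card (n := 1) (by rw [Nat.card_zpowers, h, pow_one])

theorem small_pairs : ∀ R ∈ Data.small.toFinset.powerset,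
    (∀ a ∈ R, ∀ c ∈ R, a = c ∨ (Data.clusters.any fun l => l.contains a && l.contains c) = true) →
    R.card ≤ 2 := by decide +kernel

theorem fixed_of_P25 (M : Subgroup Q) (hM : Nat.card M = 604800) (hP : P25 ≤ M) :
    ∃ i : Fin 416, ∀ m, m ∈ M → m.1 i = i := by
  classical
  by_contra hno
  have : Fact (Nat.Prime 3) := ⟨Nat.prime_three⟩
  have : Fact (Nat.Prime 7) := ⟨by norm_num⟩
  -- representatives inside
  have hrep : ∀ t : Fin 2080, C t 1 ∈ M ↔ zr (ent t >>> 5) ∈ M := fun t => by
    rw [C, pow_one]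
    constructor
    · intro h
      have := mul_mem (mul_mem (inv_mem (hP (uv_mem (ent t &&& 31)))) h) (hP (uv_mem (ent t &&& 31)))
      rwa [show (uv (ent t &&& 31))⁻¹ * (uv (ent t &&& 31) * zr (ent t >>> 5) * (uv (ent t &&& 31))⁻¹) *
        uv (ent t &&& 31) = zr (ent t >>> 5) by group] at this
    · exact fun h => mul_mem (mul_mem (hP (uv_mem _)) h) (inv_mem (hP (uv_mem _)))
  set R : Finset ℕ := (inside M).image fun t : Fin 2080 => ent t >>> 5 with hR
  have hRmem : ∀ r ∈ R, zr r ∈ M ∧ r < Data.reps.length := fun r hr => by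
    obtain ⟨t, ht, rfl⟩ := Finset.mem_image.1 hr
    exact ⟨(hrep t).1 (mem_inside.1 ht), (ent_spec t.2).1⟩
  have hcov := cover_ok
  simp only [coverB, Bool.and_eq_true, List.all_eq_true, List.mem_range, Bool.or_eq_true, List.any_eq_true,
    beq_iff_eq, List.contains_iff_mem, Nat.beq_eq] at hcov
  obtain ⟨hc1, hc2⟩ := hcov
  have hsmall : ∀ r ∈ R, r ∈ Data.small := fun r hr => by
    rcases hc1 r (hRmem r hr).2 with ⟨it, hit, he⟩ | h
    · exact absurd (item_fixed M hM hP hit fun r' hr' => by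
        rw [he, List.mem_singleton] at hr'; exact hr' ▸ (hRmem r hr).1) hno
    · exact h
  have hpair : ∀ a ∈ R, ∀ c ∈ R, a = c ∨ (Data.clusters.any fun l => l.contains a && l.contains c) = true := by
    intro a ha c hc
    rcases hc2 a (hsmall a ha) c (hsmall c hc) with (h | ⟨it, hit, he⟩) | ⟨l, hl, h⟩
    · exact Or.inl h
    · refine absurd (item_fixed M hM hP hit fun r' hr' => ?_) hno
      rcases he with he | he <;> rw [he] at hr' <;>
        simp only [List.mem_cons, List.not_mem_nil, or_false] at hr' <;> rcases hr' with rfl | rfl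
      exacts [(hRmem _ ha).1, (hRmem _ hc).1, (hRmem _ hc).1, (hRmem _ ha).1]
    · exact Or.inr (List.any_eq_true.2 ⟨l, hl, by simpa [List.contains_iff_mem] using h⟩)
  have hR2 : R.card ≤ 2 := small_pairs R
    (Finset.mem_powerset.2 fun r hr => List.mem_toFinset.2 (hsmall r hr)) hpair
  have hT : (inside M).card = 5 * R.card := by
    rw [hR, Finset.card_eq_sum_card_image (fun t : Fin 2080 => ent t >>> 5) (inside M),
      Finset.sum_congr rfl (g := fun _ => 5) fun r hr => ?_, Finset.sum_const, smul_eq_mul, mul_comm]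
    have h5 : repCount r = 5 := Nat.eq_of_beq_eq_true (List.all_eq_true.1 small_count r (hsmall r hr))
    rw [repCount_eq] at h5
    refine Eq.trans ?_ h5
    refine Finset.card_bij (fun t _ => (t : ℕ)) (fun t ht => ?_) (fun _ _ _ _ e => Fin.ext e) fun j hj => ?_
    · simp only [Finset.mem_filter, Finset.mem_range] at ht ⊢
      exact ⟨t.2, ht.2⟩
    · simp only [Finset.mem_filter, Finset.mem_range] at hj
      exact ⟨⟨j, hj.1⟩, Finset.mem_filter.2 ⟨mem_inside.2 ((hrep _).2 (hj.2 ▸ (hRmem r hr).1)), hj.2⟩, rfl⟩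
  have hR1 : R.Nonempty := by
    obtain ⟨g, hg⟩ := exists_conj_le (p := 3) _ M hM (isPGroup_zpowers orders.2.2.1) (by norm_num)
    obtain ⟨t, ht, h⟩ := conj_listed g⁻¹
    rw [inv_inv] at h
    have hz := hg z (Subgroup.mem_zpowers z)
    refine ⟨_, Finset.mem_image.2 ⟨⟨t, ht⟩, mem_inside.2 ?_, rfl⟩⟩
    rcases h with h | h <;> rw [h] at hz
    · exact hz
    · exact C_two_mem ht hz
  obtain ⟨g, hg⟩ := exists_conj_le (p := 7) _ M hM (isPGroup_zpowers orders.2.2.2) (by norm_num)
  have h7 := inside_mod_seven (M.map (MulAut.conj g).toMonoidHom) (by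
    rw [Subgroup.mem_map_equiv, MulAut.conj_symm_apply]; exact hg x (Subgroup.mem_zpowers x))
  rw [inside_map, Finset.card_map, hT] at h7
  have := hR1.card_pos
  interval_cases hc : R.card <;> norm_num at h7

/-- A subgroup of order 604800 of the group on 416 points fixes a point. -/
theorem exists_fixed (M : Subgroup Q) (hM : Nat.card M = 604800) :
    ∃ i : Fin 416, ∀ m, m ∈ M → m.1 i = i := by
  have : Fact (Nat.Prime 5) := ⟨by norm_num⟩
  obtain ⟨g, hg⟩ := exists_conj_le (p := 5) P25 M hM (IsPGroup.of_card (n := 2) (by rw [card_P25]; norm_num))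
    (by norm_num)
  obtain ⟨i, hi⟩ := fixed_of_P25 (M.map (MulAut.conj g).toMonoidHom)
    (by rw [Subgroup.card_map_of_injective (MulEquiv.injective (MulAut.conj g)), hM])
    fun a ha => by rw [Subgroup.mem_map_equiv, MulAut.conj_symm_apply]; exact hg a ha
  refine ⟨g.1⁻¹ i, fun m hm => ?_⟩
  have h := hi (g * m * g⁻¹) (by
    rw [Subgroup.mem_map_equiv, MulAut.conj_symm_apply, show g⁻¹ * (g * m * g⁻¹) * g = m by group]
    exact hm)
  rw [Subgroup.coe_mul, Subgroup.coe_mul, Subgroup.coe_inv, Equiv.Perm.mul_apply, Equiv.Perm.mul_apply] at h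
  rw [Equiv.Perm.inv_def] at h ⊢
  exact (Equiv.eq_symm_apply _).2 h

end CfsgLib.SuzRecog
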