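import Cfsg.Agent.Lib.SuzRecog.RankGraph
import Cfsg.Agent.Lib.SuzRecog.Sub
import Cfsg.Agent.Lib.SuzRecog.Model416
import Cfsg.Agent.Lib.SuzRecog.U
import Cfsg.Agent.Lib.SuzRecog.Cand
import Cfsg.Agent.Lib.SuzRecog.Gram

/-! A rank three group of degree 1782 with point stabiliser `G₂(4)` gives the standard configuration. -/

set_option autoImplicit false

namespace CfsgLib.SuzRecog

open CfsgLib.CosetEnum
open scoped Classical

variable {Ω : Type*} [Fintype Ω]

/-- The neighbours of a point among the 416. -/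
noncomputable def nbrs (Γ : SimpleGraph Ω) (f : Fin 416 → Ω) (x : Ω) : Finset (Fin 416) :=
  Finset.univ.filter fun i => Γ.Adj x (f i)

theorem mem_nbrs {Γ : SimpleGraph Ω} {f : Fin 416 → Ω} {x : Ω} {i : Fin 416} :
    i ∈ nbrs Γ f x ↔ Γ.Adj x (f i) := by
  simp [nbrs]

/-- The standard configuration. -/
structure Frame (G : Subgroup (Equiv.Perm Ω)) (a : Ω) (φ : MulAction.stabilizer G a ≃* Suz.H) where
  Γ : SimpleGraph Ω
  hG : ∀ g ∈ G, ∀ x y, Γ.Adj (g x) (g y) ↔ Γ.Adj x y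
  f : Fin 416 → Ω
  f_inj : Function.Injective f
  f_range : ∀ x, (∃ i, f i = x) ↔ Γ.Adj a x
  f_eq : ∀ (s : MulAction.stabilizer G a) i, s • f i = f (σ (φ s) i)
  f_adj : ∀ i j, Γ.Adj (f i) (f j) ↔ gadj i j
  c : Ω
  c_ne : c ≠ a
  c_nadj : ¬ Γ.Adj a c
  c_nbrs : nbrs Γ f c = S0
  orbitB : ∀ x, x ≠ a → ¬ Γ.Adj a x → ∃ s : MulAction.stabilizer G a, s • c = x
  cardB : {x | x ≠ a ∧ ¬ Γ.Adj a x}.ncard = 1365
  deg : ∀ x, {y | Γ.Adj x y}.ncard = 416
  card_S0 : S0.card = 96

theorem common_eq {Γ : SimpleGraph Ω} {f : Fin 416 → Ω} {a : Ω} (finj : Function.Injective f)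
    (hf : ∀ x, (∃ i, f i = x) ↔ Γ.Adj a x) (x : Ω) :
    Fintype.card (Γ.commonNeighbors a x) = (nbrs Γ f x).card := by
  rw [← Set.toFinset_card, ← Finset.card_image_of_injective _ finj]
  congr 1
  ext z
  simp only [Set.mem_toFinset, SimpleGraph.mem_commonNeighbors, Finset.mem_image, mem_nbrs]
  constructor
  · rintro ⟨h1, h2⟩
    obtain ⟨i, rfl⟩ := (hf z).2 h1
    exact ⟨i, h2, rfl⟩
  · rintro ⟨i, hi, rfl⟩
    exact ⟨(hf _).1 ⟨i, rfl⟩, hi⟩

theorem index_stab_sigma (i : Fin 416) : ((MulAction.stabilizer (Equiv.Perm (Fin 416)) i).comap σ).index = 416 := by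
  let : MulAction Suz.H (Fin 416) := MulAction.compHom _ σ
  have : MulAction.IsPretransitive Suz.H (Fin 416) := ⟨fun x y => by
    obtain ⟨z, rfl⟩ := exists_sigma_map x
    obtain ⟨w, rfl⟩ := exists_sigma_map y
    exact ⟨w * z⁻¹, by show σ (w * z⁻¹) (σ z b995) = σ w b995; simp⟩⟩
  have h : MulAction.stabilizer Suz.H i = (MulAction.stabilizer (Equiv.Perm (Fin 416)) i).comap σ := rfl
  rw [← h, MulAction.index_stabilizer_of_transitive, Nat.card_fin]

/-- An orbit of length 416 is the standard one. -/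
theorem exists_equivariant {Sa : Type*} [Group Sa] [MulAction Sa Ω] (φ : Sa ≃* Suz.H) (b : Ω)
    (hb : (MulAction.orbit Sa b).ncard = 416) : ∃ f : Fin 416 → Ω, Function.Injective f ∧
      (∀ x, (∃ i, f i = x) ↔ x ∈ MulAction.orbit Sa b) ∧ ∀ s i, s • f i = f (σ (φ s) i) := by
  have : Finite Suz.H := Nat.finite_of_card_ne_zero (by rw [Suz.card_H]; norm_num)
  set M : Subgroup Suz.H := (MulAction.stabilizer Sa b).map (φ : Sa →* Suz.H) with hM
  have hMi : M.index = 416 := by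
    rw [hM, Subgroup.index_map_equiv, MulAction.index_stabilizer, hb]
  have hMc : Nat.card M = 604800 := by
    have h := M.card_mul_index
    rw [hMi, Suz.card_H] at h
    omega
  obtain ⟨i, hi⟩ := exists_fixed (M.map σ.rangeRestrict) (by
    rw [Subgroup.card_map_of_injective (MonoidHom.rangeRestrict_injective_iff.2 σ_injective), hMc])
  set St := (MulAction.stabilizer (Equiv.Perm (Fin 416)) i).comap σ with hSt
  have hle : M ≤ St := fun m hm => hi (σ.rangeRestrict m) ⟨m, hm, rfl⟩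
  have heq : M = St := by
    refine Subgroup.eq_of_le_of_card_ge hle ?_
    have h := St.card_mul_index
    rw [hSt, index_stab_sigma, ← hSt, Suz.card_H] at h
    omega
  have hfix : ∀ s : Sa, s • b = b ↔ σ (φ s) i = i := by
    intro s
    have h : φ s ∈ M ↔ s • b = b := by
      rw [hM]
      exact ⟨fun ⟨t, ht, e⟩ => φ.injective e ▸ ht, fun h => ⟨s, h, rfl⟩⟩
    rw [← h, heq]; rfl
  have hex : ∀ j : Fin 416, ∃ s : Sa, σ (φ s) i = j := by
    intro j
    obtain ⟨z, rfl⟩ := exists_sigma_map i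
    obtain ⟨w, rfl⟩ := exists_sigma_map j
    exact ⟨φ.symm (w * z⁻¹), by simp⟩
  choose t ht using hex
  have key : ∀ s j, s • (t j • b) = t (σ (φ s) j) • b := by
    intro s j
    rw [← mul_smul, eq_comm, ← inv_smul_eq_iff, ← mul_smul, hfix]
    simp [map_mul, ht, Equiv.symm_apply_eq]
  refine ⟨fun j => t j • b, fun j k e => ?_, fun x => ⟨fun ⟨j, e⟩ => ⟨t j, e⟩, ?_⟩, key⟩
  · have h : ((t k)⁻¹ * t j) • b = b := by
      rw [mul_smul]
      exact inv_smul_eq_iff.2 e
    rw [hfix, map_mul, map_inv, map_mul, map_inv, Equiv.Perm.mul_apply, ht, Equiv.Perm.inv_def,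
      Equiv.symm_apply_eq, ht] at h
    exact h
  · rintro ⟨s, rfl⟩
    refine ⟨σ (φ s) i, ?_⟩
    show t (σ (φ s) i) • b = s • b
    have h : (s⁻¹ * t (σ (φ s) i)) • b = b := by
      rw [hfix, map_mul, map_inv, map_mul, map_inv, Equiv.Perm.mul_apply, ht, Equiv.Perm.inv_def,
        Equiv.symm_apply_apply]
    rwa [mul_smul, inv_smul_eq_iff] at h

theorem exists_frame (hΩ : Fintype.card Ω = 1782) (G : Subgroup (Equiv.Perm Ω)) [MulAction.IsPretransitive G Ω]
    (a b c : Ω) (φ : MulAction.stabilizer G a ≃* Suz.H)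
    (hb : (MulAction.orbit (MulAction.stabilizer G a) b).ncard = 416)
    (hc : (MulAction.orbit (MulAction.stabilizer G a) c).ncard = 1365) : Nonempty (Frame G a φ) := by
  have : Finite Suz.H := Nat.finite_of_card_ne_zero (by rw [Suz.card_H]; norm_num)
  obtain ⟨Γ, l, m, hsrg, hinv, hA, hB⟩ := exists_graph hΩ G a b c hb hc
  obtain ⟨f, finj, frange, fequiv⟩ := exists_equivariant φ b hb
  have hfA : ∀ x, (∃ i, f i = x) ↔ Γ.Adj a x := fun x => by rw [hA, frange]
  have hsinv : ∀ (s : MulAction.stabilizer G a) x y, Γ.Adj (s • x) (s • y) ↔ Γ.Adj x y :=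
    fun s x y => hinv (s : G) x y
  have hσinv : ∀ (z : Suz.H) i j, Γ.Adj (f (σ z i)) (f (σ z j)) ↔ Γ.Adj (f i) (f j) := by
    intro z i j
    have e : ∀ i, f (σ z i) = φ.symm z • f i := fun i => by rw [fequiv, φ.apply_symm_apply]
    rw [e, e, hsinv]
  obtain ⟨hfour, hgraph⟩ := rel_classify (fun i j => Γ.Adj (f i) (f j)) hσinv fun i => Γ.irrefl
  have hl : (Finset.univ.filter fun j => Γ.Adj (f b995) (f j)).card = l := by
    have h := hsrg.of_adj a (f b995) ((hfA _).1 ⟨_, rfl⟩)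
    rw [common_eq finj hfA] at h
    exact h
  rw [hl] at hfour hgraph
  obtain ⟨rfl, rfl⟩ := params hsrg hfour
  have hadj := hgraph rfl
  have hcs : c ≠ a ∧ ¬ Γ.Adj a c := by
    constructor
    · rintro rfl
      rw [show MulAction.orbit (MulAction.stabilizer G c) c = {c} from Set.eq_singleton_iff_unique_mem.2
        ⟨MulAction.mem_orbit_self c, fun z ⟨s, hs⟩ => hs.symm.trans s.2⟩, Set.ncard_singleton] at hc
      omega
    · intro h
      rw [MulAction.orbit_eq_iff.2 ((hA c).1 h), hb] at hc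
      omega
  have hBset : {x | x ≠ a ∧ ¬ Γ.Adj a x} = MulAction.orbit (MulAction.stabilizer G a) c := by
    ext x
    refine ⟨fun h => hB x h.1 h.2, ?_⟩
    rintro ⟨s, rfl⟩
    have hfix : s • a = a := s.2
    exact ⟨fun e => hcs.1 (smul_left_cancel s (e.trans hfix.symm)),
      fun h => hcs.2 ((hsinv s a c).1 (by rwa [hfix]))⟩
  have hN : ∀ (s : MulAction.stabilizer G a) x, nbrs Γ f (s • x) = (nbrs Γ f x).image (σ (φ s)) := by
    intro s x
    ext i
    simp only [mem_nbrs, Finset.mem_image]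
    constructor
    · intro h
      refine ⟨(σ (φ s))⁻¹ i, ?_, by simp⟩
      rw [← hsinv s, fequiv]
      simpa using h
    · rintro ⟨j, hj, rfl⟩
      rw [← fequiv, hsinv]; exact hj
  -- a point fixed by the two-group
  set M : Subgroup Suz.H := (MulAction.stabilizer (MulAction.stabilizer G a) c).map (φ : MulAction.stabilizer G a →* Suz.H) with hM
  have hMi : M.index = 1365 := by
    rw [hM, Subgroup.index_map_equiv, MulAction.index_stabilizer, hc]
  obtain ⟨g, hg⟩ := exists_conj_U M hMi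
  set c' := φ.symm g⁻¹ • c with hc'
  have hc'B : c' ∈ {x | x ≠ a ∧ ¬ Γ.Adj a x} := by rw [hBset]; exact ⟨_, rfl⟩
  have hUfix : ∀ w ∈ U, φ.symm w • c' = c' := by
    intro w hw
    obtain ⟨t, ht, e⟩ := hg w hw
    have e' : t = φ.symm (g * w * g⁻¹) := φ.injective (by simpa using e)
    have ht' : t • c = c := ht
    have hw' : φ.symm w = φ.symm g⁻¹ * t * φ.symm g := by
      refine φ.injective ?_
      rw [e']
      simp [mul_assoc]
    rw [hc', hw', ← mul_smul, mul_assoc, ← map_mul, mul_inv_cancel, map_one, mul_one, mul_smul, ht']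
  have h96 : (nbrs Γ f c').card = 96 := by
    rw [← common_eq finj hfA]; exact hsrg.of_not_adj (Ne.symm hc'B.1) hc'B.2
  obtain ⟨k, hk, hS⟩ := cand_of_invariant _ h96 (fun w hw i hi => by
    have := hN (φ.symm w) c'
    rw [hUfix w hw, φ.apply_symm_apply] at this
    rw [this]; exact Finset.mem_image_of_mem _ hi)
  have hB1365 : {x | x ≠ a ∧ ¬ Γ.Adj a x}.ncard = 1365 := by rw [hBset, hc]
  have horbB : ∀ x, x ≠ a → ¬ Γ.Adj a x → ∃ s : MulAction.stabilizer G a, s • c' = x := by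
    intro x h1 h2
    obtain ⟨s, rfl⟩ := hB x h1 h2
    exact ⟨s * (φ.symm g⁻¹)⁻¹, by rw [hc', mul_smul, inv_smul_smul]⟩
  have hS0 : nbrs Γ f c' = S0 := by
    obtain ⟨j, hj, rfl⟩ := List.getElem_of_mem hk
    have hj4 : j < 4 := hj
    rw [← List.getD_eq_getElem _ 0 hj] at hS
    rcases j with _ | j
    · exact hS
    exfalso
    refine cand_not hsrg finj (fun i => (hfA _).1 ⟨i, rfl⟩) hadj hc'B.1 hc'B.2 (j := j) (by omega) fun i => ?_
    rw [← mem_nbrs, hS, mem_maskSet]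
  exact ⟨⟨Γ, fun g hg x y => hinv ⟨g, hg⟩ x y, f, finj, hfA, fequiv, hadj, c', hc'B.1, hc'B.2, hS0, horbB,
    hB1365, fun x => by
      rw [← Nat.card_coe_set_eq, Nat.card_eq_fintype_card]
      exact (SimpleGraph.card_neighborSet_eq_degree Γ x).trans (hsrg.regular.degree_eq x), hS0 ▸ h96⟩⟩

end CfsgLib.SuzRecog
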