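import Cfsg.Agent.Lib.SuzRecog.Unique
import Cfsg.Agent.Lib.Chevalley.FieldMap
import Mathlib.FieldTheory.Finite.GaloisField

/-! Recognition of the sporadic Suzuki group by its rank three action. -/

set_option autoImplicit false

namespace CfsgLib.SuzRecog

open Cfsg CfsgLib.CosetEnum

/-- Recognition of Suz by its rank three action. -/
theorem isoSuz_of_rank_three {Ω : Type*} [Fintype Ω] (hΩ : Fintype.card Ω = 1782)
    (G : Subgroup (Equiv.Perm Ω)) [MulAction.IsPretransitive G Ω] (a : Ω) (K : Type) [Field K] [Fintype K]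
    (hK : Fintype.card K = 4) (e : MulAction.stabilizer G a ≃* Lie.chevG2.group K) (b c : Ω)
    (hb : (MulAction.orbit (MulAction.stabilizer G a) b).ncard = 416)
    (hc : (MulAction.orbit (MulAction.stabilizer G a) c).ncard = 1365) : Spor.IsoSuz G := by
  obtain ⟨e1⟩ := CfsgLib.SuzG2.equiv_G2
  have e2 : Suz.H ≃* ↥(Lie.chevG2.group K) := e1.trans (CfsgLib.Chevalley.groupFieldEquiv Lie.chevG2
    (FiniteField.ringEquivOfCardEq (CfsgLib.Recog.GF4.card_K4.trans hK.symm)))
  obtain ⟨C⟩ := exists_frame hΩ G a b c (e.trans e2.symm) hb hc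
  obtain ⟨C'⟩ := exists_frame_model
  exact nonempty_equiv C C' hΩ

end CfsgLib.SuzRecog
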