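import Cfsg.Agent.Lib.SuzRecog.Act
import Cfsg.Agent.Lib.SuzRecog.Checks2
import Mathlib.GroupTheory.NoncommCoprod
import Mathlib.GroupTheory.Sylow

/-! The named elements of the group on 416 points and the list of 2080 subgroups of order three. -/

set_option autoImplicit false
set_option maxRecDepth 10000

namespace CfsgLib.SuzRecog

open CfsgLib.CosetEnum

theorem allFrom416 {f : ℕ → Bool} (h : allFrom f 416 0 = true) (i : Fin 416) : f i = true :=
  allFrom_spec _ _ _ h i (Nat.zero_le _) (by omega)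

theorem node_mem {m : ℕ} (hm : m < 6 + Data.prog.length) :
    ∃ π : Q, ∀ i : Fin 416, ((π.1 i : Fin 416) : ℕ) = nd m i := by
  suffices key : ∀ (L : List (ℕ × ℕ)) (k : ℕ),
      (∀ m < k, ∃ π : Q, ∀ i : Fin 416, ((π.1 i : Fin 416) : ℕ) = nd m i) →
      progB L k = true → ∀ m < 6 + Data.prog.length, ∃ π : Q, ∀ i : Fin 416, ((π.1 i : Fin 416) : ℕ) = nd m i by
    refine key Data.prog 6 (fun k hk => ?_) prog_ok m hm
    obtain ⟨z, hz⟩ := exists_gen hk
    refine ⟨⟨σ z, ⟨z, rfl⟩⟩, fun i => (hz i).trans ?_⟩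
    exact (Nat.eq_of_beq_eq_true (allLin_spec _ _ _ (allFrom416 node0_ok i) k (Nat.zero_le _) (by omega))).symm
  intro L
  induction L with
  | nil =>
    intro k hk h m hm
    rw [progB] at h
    exact hk m (by rw [Nat.eq_of_beq_eq_true h]; exact hm)
  | cons s L ih =>
    obtain ⟨a, b⟩ := s
    intro k hk h
    unfold progB at h
    simp only [Bool.and_eq_true] at h
    obtain ⟨⟨⟨ha, hb⟩, heq⟩, hrest⟩ := h
    refine ih (k + 1) (fun m hm => ?_) hrest
    rcases Nat.lt_succ_iff_lt_or_eq.1 hm with h' | rfl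
    · exact hk m h'
    obtain ⟨za, hza⟩ := hk a (Nat.le_of_ble_eq_true ha)
    obtain ⟨zb, hzb⟩ := hk b (Nat.le_of_ble_eq_true hb)
    refine ⟨za * zb, fun i => ?_⟩
    rw [Subgroup.coe_mul, Equiv.Perm.mul_apply, hza, hzb, Nat.eq_of_beq_eq_true (allFrom416 heq i)]

open Classical in
/-- The element of a node. -/
noncomputable def el (m : ℕ) : Q := if h : m < 6 + Data.prog.length then (node_mem h).choose else 1

theorem el_apply {m : ℕ} (hm : m < 6 + Data.prog.length) (i : Fin 416) :
    (((el m).1 i : Fin 416) : ℕ) = nd m i := by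
  rw [el, dif_pos hm]; exact (node_mem hm).choose_spec i

theorem el_pow {m : ℕ} (hm : m < 6 + Data.prog.length) (e : ℕ) (i : Fin 416) :
    ((((el m) ^ e).1 i : Fin 416) : ℕ) = ndp m e i := by
  induction e generalizing i with
  | zero => rfl
  | succ e ih =>
    rw [pow_succ', Subgroup.coe_mul, Equiv.Perm.mul_apply, el_apply hm, ih]
    show nd m (ndp m e i) = strict (ndp m e i) (fun j => nd m j)
    rw [strict_eq]

theorem ext_nat {a b : Q} (h : ∀ i : Fin 416, ((a.1 i : Fin 416) : ℕ) = ((b.1 i : Fin 416) : ℕ)) : a = b :=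
  Subtype.ext (Equiv.ext fun i => Fin.ext (h i))

/-- The first element of order five. -/
noncomputable def u : Q := el Data.nU
/-- The second element of order five. -/
noncomputable def v : Q := el Data.nV
/-- The element of order three. -/
noncomputable def z : Q := el Data.nZ
/-- The element of order seven. -/
noncomputable def x : Q := el Data.nX

theorem node_lt : Data.nU < 6 + Data.prog.length ∧ Data.nV < 6 + Data.prog.length ∧
    Data.nZ < 6 + Data.prog.length ∧ Data.nX < 6 + Data.prog.length := by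
  have h := misc_ok
  simp only [Bool.and_eq_true, Nat.blt_eq] at h
  exact ⟨h.1.1.1.1.1, h.1.1.1.1.2, h.1.1.1.2, h.1.1.2⟩

theorem basic (i : Fin 416) : nd Data.nU (nd Data.nV i) = nd Data.nV (nd Data.nU i) ∧
    ndp Data.nU 5 i = i ∧ ndp Data.nV 5 i = i ∧ ndp Data.nZ 3 i = i ∧ ndp Data.nX 7 i = i := by
  have h := allFrom416 uv_ok i
  simp only [Bool.and_eq_true, Nat.beq_eq] at h
  exact ⟨h.1.1.1.1, h.1.1.1.2, h.1.1.2, h.1.2, h.2⟩

theorem uv_comm : Commute u v := ext_nat fun i => by
  rw [Subgroup.coe_mul, Subgroup.coe_mul, Equiv.Perm.mul_apply, Equiv.Perm.mul_apply, u, v,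
    el_apply node_lt.1, el_apply node_lt.2.1, el_apply node_lt.2.1, el_apply node_lt.1]
  exact (basic i).1

theorem not_all {f : ℕ → Bool} (h : (!(allFrom f 416 0)) = true) : ¬ ∀ i : Fin 416, f i = true := by
  intro hall
  have : allFrom f 416 0 = true := by
    have hl : ∀ c k, (∀ i, k ≤ i → i < k + c → f i = true) → allLin f c k = true := by
      intro c
      induction c with
      | zero => intro k _; rfl
      | succ c ih =>
        intro k hk
        show strict k (fun k => f k && allLin f c (k + 1)) = true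
        rw [strict_eq, hk k le_rfl (by omega), ih (k + 1) (fun i h1 h2 => hk i (by omega) (by omega))]
        rfl
    have hs : ∀ fuel c k, (∀ i, k ≤ i → i < k + c → f i = true) → allSplit f fuel c k = true := by
      intro fuel
      induction fuel with
      | zero => intro c k hk; exact hl c k hk
      | succ fuel ih =>
        intro c k hk
        show strict c (fun c => strict k fun k => Bool.rec (motive := fun _ => Bool)
          (allSplit f fuel (c / 2) k && allSplit f fuel (c - c / 2) (k + c / 2)) (allLin f c k) (Nat.blt c 64)) = true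
        rw [strict_eq, strict_eq]
        cases Nat.blt c 64
        · show (allSplit f fuel (c / 2) k && allSplit f fuel (c - c / 2) (k + c / 2)) = true
          rw [ih _ _ (fun i h1 h2 => hk i h1 (by omega)), ih _ _ (fun i h1 h2 => hk i (by omega) (by omega))]
          rfl
        · exact hl c k hk
    exact hs 20 416 0 fun i _ hi => hall ⟨i, by omega⟩
  rw [this] at h
  exact absurd h (by decide)

theorem orders : orderOf u = 5 ∧ orderOf v = 5 ∧ orderOf z = 3 ∧ orderOf x = 7 := by
  have h := uv_indep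
  simp only [Bool.and_eq_true] at h
  obtain ⟨⟨⟨h1, h2⟩, h3⟩, h4⟩ := h
  have key : ∀ {m p : ℕ}, p.Prime → m < 6 + Data.prog.length →
      (∀ i : Fin 416, ndp m p i = i) → (¬ ∀ i : Fin 416, Nat.beq (nd m i) i = true) → orderOf (el m) = p := by
    intro m p hp hm hpow hne
    have : Fact p.Prime := ⟨hp⟩
    refine orderOf_eq_prime (ext_nat fun i => (el_pow hm p i).trans (hpow i)) fun h => hne fun i => ?_
    rw [Nat.beq_eq, ← el_apply hm, h]
    rfl
  refine ⟨key (by norm_num) node_lt.1 (fun i => (basic i).2.1) (not_all h2), ?_,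
    key (by norm_num) node_lt.2.2.1 (fun i => (basic i).2.2.2.1) (not_all h3),
    key (by norm_num) node_lt.2.2.2 (fun i => (basic i).2.2.2.2) (not_all h4)⟩
  refine key (by norm_num) node_lt.2.1 (fun i => (basic i).2.2.1) fun hall => ?_
  refine not_all (allLin_spec _ _ _ h1 0 le_rfl (by omega)) fun i => ?_
  have := hall i
  simpa [ndp] using this

theorem v_not_mem : v ∉ Subgroup.zpowers u := by
  intro h
  have hfin : IsOfFinOrder u := orderOf_pos_iff.1 (by rw [orders.1]; norm_num)
  rw [hfin.mem_zpowers_iff_mem_range_orderOf, orders.1, Finset.mem_image] at h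
  obtain ⟨e, he, heq⟩ := h
  have hind := uv_indep
  simp only [Bool.and_eq_true] at hind
  refine not_all (allLin_spec _ _ _ hind.1.1.1 e (Nat.zero_le _) (by simpa using he)) fun i => ?_
  rw [Nat.beq_eq, ← el_pow node_lt.1, ← el_apply node_lt.2.1]
  exact congrArg (fun q : Q => ((q.1 i : Fin 416) : ℕ)) heq.symm

/-- The Sylow subgroup for five. -/
noncomputable def P25 : Subgroup Q :=
  (MonoidHom.noncommCoprod (Subgroup.zpowers u).subtype (Subgroup.zpowers v).subtype fun a b => by
    obtain ⟨i, hi⟩ := Subgroup.mem_zpowers_iff.1 a.2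
    obtain ⟨j, hj⟩ := Subgroup.mem_zpowers_iff.1 b.2
    show Commute a.1 b.1
    rw [← hi, ← hj]; exact uv_comm.zpow_zpow i j).range

theorem u_mem : u ∈ P25 := ⟨(⟨u, Subgroup.mem_zpowers u⟩, 1), by simp⟩

theorem v_mem : v ∈ P25 := ⟨(1, ⟨v, Subgroup.mem_zpowers v⟩), by simp⟩

theorem card_P25 : Nat.card P25 = 25 := by
  refine (Nat.card_congr (MonoidHom.ofInjective ?_).toEquiv.symm).trans ?_
  · rw [injective_iff_map_eq_one]
    rintro ⟨a, b⟩ h
    have h' : (a : Q) * b = 1 := h
    have hb : (b : Q) ∈ Subgroup.zpowers u := by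
      rw [show (b : Q) = (a : Q)⁻¹ from (inv_eq_of_mul_eq_one_right h').symm]; exact inv_mem a.2
    have : Fact (Nat.Prime 5) := ⟨by norm_num⟩
    by_cases hb1 : b.1 = 1
    · have ha : a.1 = 1 := by simpa [hb1] using h'
      exact Prod.ext (Subtype.ext ha) (Subtype.ext hb1)
    · exfalso
      have hle : Subgroup.zpowers (b : Q) ≤ Subgroup.zpowers v := Subgroup.zpowers_le.2 b.2
      have hcard : Nat.card (Subgroup.zpowers (b : Q)) = 5 := by
        have hd := Subgroup.card_dvd_of_le hle
        rw [Nat.card_zpowers v, orders.2.1] at hd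
        refine ((Nat.dvd_prime (by norm_num)).1 hd).resolve_left fun h1 => hb1 ?_
        rw [Nat.card_zpowers, orderOf_eq_one_iff] at h1; exact h1
      have : Finite (Subgroup.zpowers v) := Nat.finite_of_card_ne_zero (by rw [Nat.card_zpowers, orders.2.1]; norm_num)
      have e := Subgroup.eq_of_le_of_card_ge hle (by rw [hcard, Nat.card_zpowers, orders.2.1])
      exact v_not_mem (Subgroup.zpowers_le.2 hb (by rw [e]; exact Subgroup.mem_zpowers v))
  · rw [Nat.card_prod, Nat.card_zpowers, Nat.card_zpowers, orders.1, orders.2.1]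

theorem rep_conj : ∀ r ∈ Data.reps, r < 6 + Data.prog.length ∧ ∃ g : Q, el r = g * z * g⁻¹ := by
  suffices key : ∀ (L : List (ℕ × ℕ × ℕ)) (known : List ℕ), chainB L known = true →
      (∀ r ∈ known, r < 6 + Data.prog.length ∧ ∃ g : Q, el r = g * z * g⁻¹) →
      ∀ r ∈ Data.reps, r < 6 + Data.prog.length ∧ ∃ g : Q, el r = g * z * g⁻¹ by
    refine key _ _ chain_ok fun r hr => ?_
    rw [List.mem_singleton] at hr
    subst hr
    exact ⟨node_lt.2.2.1, 1, by simp [z]⟩
  intro L
  induction L with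
  | nil =>
    intro known h hk r hr
    rw [chainB, List.all_eq_true] at h
    exact hk r (List.contains_iff_mem.1 (h r hr))
  | cons s L ih =>
    obtain ⟨c, p, k⟩ := s
    intro known h hk
    simp only [chainB, Bool.and_eq_true, Nat.blt_eq] at h
    obtain ⟨⟨⟨⟨hk6, hp⟩, hc⟩, heq⟩, hrest⟩ := h
    refine ih _ hrest fun r hr => ?_
    rcases List.mem_cons.1 hr with rfl | hr
    · refine ⟨hc, ?_⟩
      obtain ⟨hpl, g, hg⟩ := hk p (List.contains_iff_mem.1 hp)
      refine ⟨el k * g, ?_⟩
      rw [show el k * g * z * (el k * g)⁻¹ = el k * (g * z * g⁻¹) * (el k)⁻¹ by group, ← hg,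
        eq_mul_inv_iff_mul_eq]
      refine ext_nat fun i => ?_
      have hk' : k < 6 + Data.prog.length := by omega
      rw [Subgroup.coe_mul, Subgroup.coe_mul, Equiv.Perm.mul_apply, Equiv.Perm.mul_apply, el_apply hc,
        el_apply hk', el_apply hk', el_apply hpl, Nat.eq_of_beq_eq_true (allFrom416 heq i)]
    · exact hk r hr

/-- The representative. -/
noncomputable def zr (r : ℕ) : Q := el (Data.reps.getD r 0)

theorem zr_conj {r : ℕ} (hr : r < Data.reps.length) : ∃ g : Q, zr r = g * z * g⁻¹ := by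
  rw [zr, List.getD_eq_getElem _ _ hr]; exact (rep_conj _ (List.getElem_mem hr)).2

/-- The element `u ^ a * v ^ b`. -/
noncomputable def uv (j : ℕ) : Q := u ^ (j / 5) * v ^ (j % 5)

theorem uv_mem (j : ℕ) : uv j ∈ P25 := mul_mem (pow_mem u_mem _) (pow_mem v_mem _)

theorem uv_apply (j : ℕ) (i : Fin 416) : (((uv j).1 i : Fin 416) : ℕ) = uvp j i := by
  rw [uv, Subgroup.coe_mul, Equiv.Perm.mul_apply, u, el_pow node_lt.1, v, el_pow node_lt.2.1]
  show _ = strict (ndp Data.nV (j % 5) i) fun y => ndp Data.nU (j / 5) y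
  rw [strict_eq]

theorem uv_inv_apply {j : ℕ} (hj : j < 25) (i : Fin 416) :
    ((((uv j)⁻¹).1 i : Fin 416) : ℕ) = uvi j i := by
  have hinv : ∀ (w : Q), orderOf w = 5 → ∀ e, e < 5 → (w ^ e)⁻¹ = w ^ ((5 - e) % 5) := by
    intro w hw e he
    refine inv_eq_of_mul_eq_one_right ?_
    rw [← pow_add, ← pow_mod_orderOf, hw, Nat.add_mod, Nat.mod_mod, ← Nat.add_mod,
      show (e + (5 - e)) % 5 = 0 by omega, pow_zero]
  have hd : j / 5 < 5 := by omega
  rw [uv, mul_inv_rev, hinv v orders.2.1 _ (Nat.mod_lt _ (by norm_num)), hinv u orders.1 _ hd,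
    (uv_comm.symm.pow_pow _ _).eq, Subgroup.coe_mul, Equiv.Perm.mul_apply, u, el_pow node_lt.1, v,
    el_pow node_lt.2.1]
  show _ = strict (ndp Data.nV ((5 - j % 5) % 5) i) fun y => ndp Data.nU ((5 - j / 5) % 5) y
  rw [strict_eq]

theorem ent_spec {t : ℕ} (ht : t < 2080) : ent t >>> 5 < Data.reps.length ∧ ent t &&& 31 < 25 := by
  have h := allFrom_spec _ _ _ ent_ok t (Nat.zero_le _) (by omega)
  simpa only [Bool.and_eq_true, Nat.blt_eq] using h

/-- A listed element. -/
noncomputable def C (t e : ℕ) : Q := uv (ent t &&& 31) * zr (ent t >>> 5) ^ e * (uv (ent t &&& 31))⁻¹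

theorem C_apply {t : ℕ} (ht : t < 2080) (e : ℕ) (i : Fin 416) :
    (((C t e).1 i : Fin 416) : ℕ) = cj t e i := by
  obtain ⟨h1, h2⟩ := ent_spec ht
  have hlt : Data.reps.getD (ent t >>> 5) 0 < 6 + Data.prog.length :=
    Nat.le_of_ble_eq_true (allFrom_spec _ _ _ rep_link _ (Nat.zero_le _) (by omega))
  rw [C, Subgroup.coe_mul, Subgroup.coe_mul, Equiv.Perm.mul_apply, Equiv.Perm.mul_apply, uv_apply, zr,
    el_pow hlt, uv_inv_apply h2]
  simp only [cj, strict_eq]

/-- The key of an element. -/
noncomputable def keyQ (a : Q) : ℕ := keyOf fun i => if h : i < 416 then ((a.1 ⟨i, h⟩ : Fin 416) : ℕ) else 0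

theorem keyOf_congr {f g : ℕ → ℕ} (h : ∀ b ∈ Data.keyBase, f b = g b) : keyOf f = keyOf g := by
  have : ∀ (l : List ℕ), (∀ b ∈ l, f b = g b) → ∀ r, l.foldl (fun r b => strict (f b) fun y => r <<< 16 + y) r =
      l.foldl (fun r b => strict (g b) fun y => r <<< 16 + y) r := by
    intro l
    induction l with
    | nil => intros; rfl
    | cons b l ih =>
      intro hl r
      rw [List.foldl_cons, List.foldl_cons, hl b List.mem_cons_self]
      exact ih (fun c hc => hl c (List.mem_cons_of_mem _ hc)) _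
  exact this _ h 0

theorem base_lt {b : ℕ} (hb : b ∈ Data.keyBase) : b < 416 := by
  have h := misc_ok
  simp only [Bool.and_eq_true, List.all_eq_true, Nat.blt_eq] at h
  exact h.1.2 b hb

theorem keyQ_C {t : ℕ} (ht : t < 2080) (e : ℕ) : keyQ (C t e) = keyOf (cj t e) :=
  keyOf_congr fun b hb => by simp only [dif_pos (base_lt hb)]; exact C_apply ht e ⟨b, base_lt hb⟩

theorem C_inj {t t' e e' : ℕ} (ht : t < 2080) (ht' : t' < 2080) (he : e = 1 ∨ e = 2) (he' : e' = 1 ∨ e' = 2)
    (h : C t e = C t' e') : t = t' ∧ e = e' := by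
  have hk : keyOf (cj t e) = keyOf (cj t' e') := by rw [← keyQ_C ht, ← keyQ_C ht', h]
  have hq : ∀ q, q < 4160 → ∃ p, p < 4160 ∧ Data.sortT.get 13 p = q := by
    intro q hq
    have h := allFrom_spec _ _ _ key_onto q (Nat.zero_le _) (by omega)
    simp only [strict_eq, Bool.and_eq_true, Nat.blt_eq, Nat.beq_eq] at h
    exact ⟨_, h.1, h.2⟩
  have hmono : ∀ p p', p < p' → p' < 4160 → keyAt (Data.sortT.get 13 p) < keyAt (Data.sortT.get 13 p') := by
    intro p p' hlt hp'
    induction p', hlt using Nat.le_induction with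
    | base =>
      have h := allFrom_spec _ _ _ key_inj p (Nat.zero_le _) (by omega)
      simp only [strict_eq, Bool.and_eq_true, Bool.or_eq_true, Nat.blt_eq, Nat.beq_eq] at h
      exact h.2.resolve_left (by omega)
    | succ p' hle ih =>
      have h := allFrom_spec _ _ _ key_inj p' (Nat.zero_le _) (by omega)
      simp only [strict_eq, Bool.and_eq_true, Bool.or_eq_true, Nat.blt_eq, Nat.beq_eq] at h
      exact (ih (by omega)).trans (h.2.resolve_left (by omega))
  have hcode : ∀ {t e}, (e = 1 ∨ e = 2) → keyOf (cj t e) = keyAt (2 * t + (e - 1)) := by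
    intro t e he
    unfold keyAt
    rw [show (2 * t + (e - 1)) >>> 1 = t by rw [Nat.shiftRight_eq_div_pow]; omega,
      show (2 * t + (e - 1)) % 2 + 1 = e by omega]
  rw [hcode he, hcode he'] at hk
  obtain ⟨p, hp, hpe⟩ := hq (2 * t + (e - 1)) (by omega)
  obtain ⟨p', hp', hpe'⟩ := hq (2 * t' + (e' - 1)) (by omega)
  rcases lt_trichotomy p p' with h | h | h
  · have := hmono p p' h hp'; rw [hpe, hpe', hk] at this; omega
  · rw [h, hpe'] at hpe; omega
  · have := hmono p' p h hp; rw [hpe, hpe', hk] at this; omega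

end CfsgLib.SuzRecog
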