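import Cfsg.Agent.Lib.SuzRecog.RankGraph
import Mathlib.Tactic.Abel

/-! A positive semidefinite matrix of a strongly regular graph on 1782 points. -/

set_option autoImplicit false

namespace CfsgLib.SuzRecog

open Matrix
open scoped Classical

variable {Ω : Type*} [Fintype Ω] {Γ : SimpleGraph Ω}

/-- The integral matrix with entries 182, -7 and 2. -/
noncomputable def wmat (Γ : SimpleGraph Ω) : Matrix Ω Ω ℤ :=
  (180 : ℤ) • (1 : Matrix Ω Ω ℤ) - (9 : ℤ) • Γ.adjMatrix ℤ + (2 : ℤ) • Matrix.of fun _ _ => (1 : ℤ)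

theorem wmat_sq (h : Γ.IsSRGWith 1782 416 100 96) : wmat Γ * wmat Γ = (324 : ℤ) • wmat Γ := by
  have hdeg : ∀ i, ∑ j, Γ.adjMatrix ℤ i j = 416 := fun i => by
    have h0 := SimpleGraph.adjMatrix_mulVec_const_apply (G := Γ) (a := (1 : ℤ)) (v := i)
    simp [Matrix.mulVec, dotProduct, h.regular.degree_eq] at h0 ⊢
    exact_mod_cast h0
  set A := Γ.adjMatrix ℤ with hA
  set J : Matrix Ω Ω ℤ := Matrix.of fun _ _ => (1 : ℤ) with hJ
  have hAJ : A * J = (416 : ℤ) • J := by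
    ext i j; simp [Matrix.mul_apply, hJ, hdeg]
  have hJA : J * A = (416 : ℤ) • J := by
    ext i j
    have : ∑ k, A k j = 416 := by
      rw [← hdeg j]; exact Finset.sum_congr rfl fun k _ => by simp [hA, SimpleGraph.adj_comm]
    simp [Matrix.mul_apply, hJ, this]
  have hJJ : J * J = (1782 : ℤ) • J := by ext i j; simp [Matrix.mul_apply, hJ, h.card]
  have hmat := h.matrix_eq (α := ℤ)
  have hsum := Γ.one_add_adjMatrix_add_compl_adjMatrix_eq_of_one (α := ℤ)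
  have hC : Γᶜ.adjMatrix ℤ = J - 1 - A := by
    show Γᶜ.adjMatrix ℤ = Matrix.of 1 - 1 - A
    rw [← hsum, SimpleGraph.compl_adjMatrix_eq_adjMatrix_compl]; abel
  rw [hC, pow_two, ← hA] at hmat
  show ((180 : ℤ) • 1 - (9 : ℤ) • A + (2 : ℤ) • J) * ((180 : ℤ) • 1 - (9 : ℤ) • A + (2 : ℤ) • J) = _
  simp only [wmat, ← hA, ← hJ, mul_sub, sub_mul, mul_add, add_mul, smul_mul_assoc, mul_smul_comm,
    smul_smul, mul_one, one_mul, hAJ, hJA, hJJ, hmat, smul_add, smul_sub]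
  module

theorem wmat_symm : (wmat Γ)ᵀ = wmat Γ := by
  ext i j
  simp only [wmat, Matrix.transpose_apply, Matrix.add_apply, Matrix.sub_apply, Matrix.smul_apply, Matrix.of_apply,
    SimpleGraph.adjMatrix_apply, Matrix.one_apply, Γ.adj_comm j i, eq_comm (a := j) (b := i)]

theorem wmat_nonneg (h : Γ.IsSRGWith 1782 416 100 96) (z : Ω → ℤ) : 0 ≤ z ⬝ᵥ (wmat Γ *ᵥ z) := by
  have h1 : (wmat Γ *ᵥ z) ⬝ᵥ (wmat Γ *ᵥ z) = 324 * (z ⬝ᵥ (wmat Γ *ᵥ z)) := by
    rw [Matrix.dotProduct_mulVec, ← Matrix.mulVec_transpose, wmat_symm, Matrix.mulVec_mulVec,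
      wmat_sq h, Matrix.smul_mulVec, smul_dotProduct, dotProduct_comm, smul_eq_mul]
  have h2 : 0 ≤ (wmat Γ *ᵥ z) ⬝ᵥ (wmat Γ *ᵥ z) := Finset.sum_nonneg fun x _ => mul_self_nonneg _
  omega

theorem wmat_mulVec (z : Ω → ℤ) (y : Ω) : (wmat Γ *ᵥ z) y =
    180 * z y - 9 * (∑ u, z u * if Γ.Adj y u then 1 else 0) + 2 * ∑ u, z u := by
  simp only [wmat, Matrix.add_mulVec, Matrix.sub_mulVec, Matrix.smul_mulVec, Matrix.one_mulVec, Pi.add_apply,
    Pi.sub_apply, Pi.smul_apply, smul_eq_mul]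
  congr 1
  · congr 2
    simp [Matrix.mulVec, dotProduct, SimpleGraph.adjMatrix_apply]
  · congr 1
    simp [Matrix.mulVec, dotProduct]

end CfsgLib.SuzRecog
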