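import Mathlib.GroupTheory.GroupAction.Transitive
import Mathlib.GroupTheory.GroupAction.Basic
import Mathlib.Data.Fintype.EquivFin
import Mathlib.Algebra.BigOperators.Group.Finset.Basic
import Mathlib.Combinatorics.Enumerative.DoubleCounting
import Mathlib.Combinatorics.SimpleGraph.StronglyRegular
import Mathlib.Combinatorics.SimpleGraph.AdjMatrix
import Mathlib.Algebra.Group.Subgroup.Pointwise
import Mathlib.LinearAlgebra.Matrix.DotProduct
import Mathlib.Tactic.Module

/-! The graph of a rank three group of degree 1782 with subdegrees 1, 416, 1365. -/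

set_option autoImplicit false
set_option linter.style.haveILetI false

namespace CfsgLib.SuzRecog

open Matrix
open scoped Classical

variable {Ω : Type*} [Fintype Ω]

/-- The parameters. -/
theorem params {Γ : SimpleGraph Ω} {l m : ℕ} (h : Γ.IsSRGWith 1782 416 l m)
    (hl' : l = 0 ∨ l = 100 ∨ l = 315 ∨ l = 415) : l = 100 ∧ m = 96 := by
  have hne : Nonempty Ω := Fintype.card_pos_iff.1 (by rw [h.card]; norm_num)
  obtain ⟨x⟩ := hne
  obtain ⟨y, hy⟩ : ∃ y, Γ.Adj x y := by
    have : 0 < Γ.degree x := by rw [h.regular.degree_eq]; norm_num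
    exact (Γ.degree_pos_iff_exists_adj x).1 this
  have hl : l < 416 := by
    have := hy.card_commonNeighbors_lt_degree
    rwa [h.of_adj x y hy, h.regular.degree_eq] at this
  have hp := SimpleGraph.IsSRGWith.param_eq Γ h (by norm_num)
  have hcases : (l = 415 ∧ m = 0) ∨ (l = 100 ∧ m = 96) := by
    rcases hl' with rfl | rfl | rfl | rfl <;> omega
  rcases hcases with ⟨rfl, rfl⟩ | h'
  · exfalso
    have htrans : ∀ u v w, Γ.Adj u v → Γ.Adj v w → u ≠ w → Γ.Adj u w := by
      intro u v w huv hvw huw
      by_contra hn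
      have := h.of_not_adj huw hn
      rw [Fintype.card_eq_zero_iff] at this
      exact this.elim ⟨v, huv, hvw.symm⟩
    let S : Setoid Ω := ⟨fun u v => u = v ∨ Γ.Adj u v,
      fun _ => Or.inl rfl, fun {u v} e => e.elim (fun e => Or.inl e.symm) (fun e => Or.inr e.symm),
      fun {u v w} e1 e2 => by
        rcases e1 with rfl | e1
        · exact e2
        rcases e2 with rfl | e2
        · exact Or.inr e1
        by_cases huw : u = w
        · exact Or.inl huw
        · exact Or.inr (htrans u v w e1 e2 huw)⟩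
    have hfib : ∀ q : Quotient S,
        (Finset.univ.filter fun v => Quotient.mk S v = q).card = 417 := by
      intro q
      induction q using Quotient.inductionOn with
      | h u =>
        have e : (Finset.univ.filter fun v => Quotient.mk S v = Quotient.mk S u) =
            insert u (Γ.neighborFinset u) := by
          ext v
          simp only [Finset.mem_filter, Finset.mem_univ, true_and, Finset.mem_insert,
            SimpleGraph.mem_neighborFinset, Quotient.eq]
          exact ⟨fun h => h.elim Or.inl (fun h => Or.inr h.symm),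
            fun h => h.elim Or.inl (fun h => Or.inr h.symm)⟩
        rw [e, Finset.card_insert_of_notMem (by simp), SimpleGraph.card_neighborFinset_eq_degree,
          h.regular.degree_eq]
    have hc : Fintype.card Ω = ∑ q : Quotient S,
        (Finset.univ.filter fun v => Quotient.mk S v = q).card :=
      Finset.card_eq_sum_card_fiberwise fun v _ => Finset.mem_univ _
    rw [Finset.sum_congr rfl (fun q _ => hfib q), Finset.sum_const, smul_eq_mul, h.card] at hc
    omega
  · exact h'

/-- The orbital graph. -/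
theorem exists_graph (hΩ : Fintype.card Ω = 1782)
    (G : Subgroup (Equiv.Perm Ω)) [MulAction.IsPretransitive G Ω] (a b c : Ω)
    (hb : (MulAction.orbit (MulAction.stabilizer G a) b).ncard = 416)
    (hc : (MulAction.orbit (MulAction.stabilizer G a) c).ncard = 1365) :
    ∃ (Γ : SimpleGraph Ω) (l m : ℕ), Γ.IsSRGWith 1782 416 l m ∧
      (∀ (g : G) (x y : Ω), Γ.Adj (g • x) (g • y) ↔ Γ.Adj x y) ∧
      (∀ z, Γ.Adj a z ↔ z ∈ MulAction.orbit (MulAction.stabilizer G a) b) ∧
      ∀ z, z ≠ a → ¬ Γ.Adj a z → z ∈ MulAction.orbit (MulAction.stabilizer G a) c := by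
  set Ob := MulAction.orbit (MulAction.stabilizer G a) b with hOb
  set Oc := MulAction.orbit (MulAction.stabilizer G a) c with hOc
  have hfix : ∀ s : MulAction.stabilizer G a, (s : G) • a = a := fun s => s.2
  have horba : MulAction.orbit (MulAction.stabilizer G a) a = {a} := by
    ext z
    exact ⟨fun ⟨s, hs⟩ => hs.symm.trans (hfix s), fun (hz : z = a) => by rw [hz]; exact MulAction.mem_orbit_self a⟩
  have haOb : a ∉ Ob := fun h => by
    have := MulAction.orbit_eq_iff.2 h
    rw [horba] at this
    rw [hOb, ← this, Set.ncard_singleton] at hb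
    omega
  have haOc : a ∉ Oc := fun h => by
    have := MulAction.orbit_eq_iff.2 h
    rw [horba] at this
    rw [hOc, ← this, Set.ncard_singleton] at hc
    omega
  have hdisj : Disjoint Ob Oc := Set.disjoint_left.2 fun z h1 h2 => by
    have e : Ob = Oc := (MulAction.orbit_eq_iff.2 h1).symm.trans (MulAction.orbit_eq_iff.2 h2)
    rw [e, hc] at hb
    omega
  have hcover : ∀ z, z ≠ a → z ∈ Ob ∨ z ∈ Oc := by
    intro z hz
    have hsub : Ob ∪ Oc ⊆ {a}ᶜ := by
      rintro w (hw | hw) (rfl : w = a)
      exacts [haOb hw, haOc hw]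
    have heq : Ob ∪ Oc = {a}ᶜ := by
      refine Set.eq_of_subset_of_ncard_le hsub ?_ (Set.toFinite _)
      rw [Set.ncard_union_eq hdisj (Set.toFinite _) (Set.toFinite _), hb, hc, Set.ncard_compl,
        Set.ncard_singleton, Nat.card_eq_fintype_card, hΩ]
    have hm : z ∈ ({a}ᶜ : Set Ω) := hz
    rwa [← heq] at hm
  let R : Ω → Ω → Prop := fun x y => ∃ g : G, g • a = x ∧ g • b = y
  have hRsmul : ∀ (g : G) x y, R x y → R (g • x) (g • y) := fun g x y ⟨k, h1, h2⟩ =>
    ⟨g * k, by rw [mul_smul, h1], by rw [mul_smul, h2]⟩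
  have hRiff : ∀ (g : G) x y, R (g • x) (g • y) ↔ R x y := fun g x y =>
    ⟨fun h => by simpa [inv_smul_smul] using hRsmul g⁻¹ _ _ h, hRsmul g x y⟩
  have hout : ∀ z, R a z ↔ z ∈ Ob := fun z =>
    ⟨fun ⟨g, h1, h2⟩ => ⟨⟨g, h1⟩, h2⟩, fun ⟨s, hs⟩ => ⟨s, hfix s, hs⟩⟩
  have houtc : ∀ x, ({z | R x z} : Set Ω).ncard = 416 := by
    intro x
    obtain ⟨g, rfl⟩ := MulAction.exists_smul_eq G a x
    have e : {z | R (g • a) z} = (fun z => g • z) '' Ob := by
      ext z
      constructor
      · intro hz
        refine ⟨g⁻¹ • z, (hout _).1 ?_, smul_inv_smul g z⟩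
        simpa [inv_smul_smul] using hRsmul g⁻¹ _ _ hz
      · rintro ⟨w, hw, rfl⟩
        exact hRsmul g _ _ ((hout w).2 hw)
    rw [e, Set.ncard_image_of_injective _ (MulAction.injective g), hb]
  have hinc : ∀ y, ({z | R z y} : Set Ω).ncard = ({z | R z a} : Set Ω).ncard := by
    intro y
    obtain ⟨g, rfl⟩ := MulAction.exists_smul_eq G a y
    have e : {z | R z (g • a)} = (fun z => g • z) '' {z | R z a} := by
      ext z
      constructor
      · intro hz
        refine ⟨g⁻¹ • z, ?_, smul_inv_smul g z⟩
        simpa [inv_smul_smul] using hRsmul g⁻¹ _ _ hz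
      · rintro ⟨w, hw, rfl⟩
        exact hRsmul g _ _ hw
    rw [e, Set.ncard_image_of_injective _ (MulAction.injective g)]
  have hin416 : ({z | R z a} : Set Ω).ncard = 416 := by
    have h1 : ∑ x : Ω, (Finset.univ.bipartiteAbove R x).card =
        ∑ y : Ω, (Finset.univ.bipartiteBelow R y).card :=
      Finset.sum_card_bipartiteAbove_eq_sum_card_bipartiteBelow R
    have e1 : ∀ x, (Finset.univ.bipartiteAbove R x).card = 416 := fun x => by
      rw [← houtc x, Set.ncard_eq_toFinset_card']
      congr 1
      ext z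
      simp [Finset.bipartiteAbove]
    have e2 : ∀ y, (Finset.univ.bipartiteBelow R y).card = ({z | R z a} : Set Ω).ncard := fun y => by
      rw [← hinc y, Set.ncard_eq_toFinset_card']
      congr 1
      ext z
      simp [Finset.bipartiteBelow]
    rw [Finset.sum_congr rfl (fun x _ => e1 x), Finset.sum_congr rfl (fun y _ => e2 y),
      Finset.sum_const, Finset.sum_const, Finset.card_univ, hΩ, smul_eq_mul, smul_eq_mul] at h1
    omega
  have hin : ∀ z, R z a → z ∈ Ob := by
    intro z hz
    have hza : z ≠ a := by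
      rintro rfl
      exact haOb ((hout _).1 hz)
    refine (hcover z hza).resolve_right fun hzc => ?_
    have hsub : Oc ⊆ {w | R w a} := by
      intro w hw
      rw [hOc, ← MulAction.orbit_eq_iff.2 hzc] at hw
      obtain ⟨s, rfl⟩ := hw
      have := hRsmul (s : G) z a hz
      rwa [hfix s] at this
    have := Set.ncard_le_ncard hsub (Set.toFinite _)
    omega
  have hsymm : ∀ x y, R x y → R y x := by
    intro x y h
    obtain ⟨g, rfl⟩ := MulAction.exists_smul_eq G a y
    have h' : R (g⁻¹ • x) a := by simpa [inv_smul_smul] using hRsmul g⁻¹ _ _ h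
    have := hRsmul g _ _ ((hout _).2 (hin _ h'))
    simpa [smul_inv_smul] using this
  have hirr : ∀ x, ¬ R x x := by
    rintro x ⟨g, h1, h2⟩
    exact haOb (by
      have : b = a := smul_left_cancel g (h2.trans h1.symm)
      rw [hOb, this]; exact MulAction.mem_orbit_self a)
  let Γ : SimpleGraph Ω := { Adj := R, symm := ⟨hsymm⟩, loopless := ⟨hirr⟩ }
  have hiff : ∀ (g : G) (x y : Ω), Γ.Adj (g • x) (g • y) ↔ Γ.Adj x y := hRiff
  letI : DecidableRel Γ.Adj := Classical.decRel _
  have hreg : Γ.IsRegularOfDegree 416 := by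
    intro x
    rw [← SimpleGraph.card_neighborSet_eq_degree, ← Nat.card_eq_fintype_card,
      Nat.card_coe_set_eq]
    exact houtc x
  have hcn : ∀ (g : G) x y, Fintype.card (Γ.commonNeighbors (g • x) (g • y)) =
      Fintype.card (Γ.commonNeighbors x y) := by
    intro g x y
    refine Fintype.card_congr (Equiv.subtypeEquiv (MulAction.toPerm g⁻¹) fun z => ?_)
    show Γ.Adj (g • x) z ∧ Γ.Adj (g • y) z ↔ Γ.Adj x (g⁻¹ • z) ∧ Γ.Adj y (g⁻¹ • z)
    rw [← hiff g x, ← hiff g y, smul_inv_smul]
  set l := Fintype.card (Γ.commonNeighbors a b) with hl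
  set m := Fintype.card (Γ.commonNeighbors a c) with hm
  have hsrg : Γ.IsSRGWith 1782 416 l m :=
    { card := hΩ
      regular := hreg
      of_adj := fun x y ⟨g, h1, h2⟩ => by rw [← h1, ← h2, hcn]
      of_not_adj := fun x y hxy hn => by
        obtain ⟨g, rfl⟩ := MulAction.exists_smul_eq G a x
        have h1 : g⁻¹ • y ≠ a := fun e => hxy (by rw [← e, smul_inv_smul])
        have h2 : g⁻¹ • y ∈ Oc := (hcover _ h1).resolve_left fun h => hn (by
          have := hRsmul g _ _ ((hout _).2 h)
          rwa [smul_inv_smul] at this)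
        obtain ⟨s, hs⟩ := h2
        have hy : g • ((s : G) • c) = y := by
          rw [show (s : G) • c = g⁻¹ • y from hs, smul_inv_smul]
        rw [← hy, hm, ← hcn (g * (s : G)) a c, mul_smul, mul_smul, hfix s] }
  exact ⟨Γ, l, m, hsrg, hiff, hout, fun z hz hn => (hcover z hz).resolve_left fun h => hn ((hout z).2 h)⟩

end CfsgLib.SuzRecog
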