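import Cfsg.Agent.Lib.SuzRecog.Act
import Cfsg.Agent.Lib.SuzRecog.Cand
import Cfsg.Agent.Lib.SuzRecog.StabData
import Cfsg.Agent.Lib.CosetEnum.Index
import Mathlib.Data.Nat.Bitwise

/-! The orbits on 1365 points of the stabiliser of the chosen neighbourhood. -/

set_option autoImplicit false
set_option maxRecDepth 10000

namespace CfsgLib.SuzRecog

open CfsgLib.CosetEnum

theorem stabComp : allFrom (fun k => compOK Suz.subTable Data.stabT Data.stabWords k) 1782 0 = true := by
  decide +kernel

theorem stabRows : allFrom (fun k => orbitRowOK Data.stabT Data.stabLab Data.stabPar Data.stabRoot 1782 k) 1782 0 = true := by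
  decide +kernel

theorem stabS0 : allLin (fun j => allFrom (fun i => !(Nat.testBit (Data.cands.getD 0 0) i) ||
    Nat.testBit (Data.cands.getD 0 0) (Data.posT.get 20 (act Data.stabT j (Data.embT.get 20 i)))) 416 0) 2 0 = true := by
  decide +kernel

theorem stabB : allFrom (fun y => Nat.blt (Data.stabLab.get 20 y) 4 == Nat.beq (Suz.lab.get 20 y) 1) 1782 0 = true := by
  decide +kernel

theorem stabRootB : allLin (fun c => Nat.blt (Data.stabRoot.get 20 c) 1782 &&
    Nat.beq (Data.stabLab.get 20 (Data.stabRoot.get 20 c)) c) 4 0 = true := by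
  decide +kernel

theorem stabSum : allLin (fun sel => !(Nat.beq
      ((bif Nat.testBit sel 0 then countLab Data.stabLab 0 1782 else 0) +
        (bif Nat.testBit sel 1 then countLab Data.stabLab 1 1782 else 0) +
        (bif Nat.testBit sel 2 then countLab Data.stabLab 2 1782 else 0) +
        (bif Nat.testBit sel 3 then countLab Data.stabLab 3 1782 else 0)) 320) ||
    allLin (fun c => Nat.testBit sel c == Nat.beq c Data.cls320) 4 0) 16 0 = true := by
  decide +kernel

/-- Elements of the stabiliser moving the points as the listed columns do. -/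
noncomputable def HsGen : Subgroup Suz.H :=
  Subgroup.closure {z | ∃ j < Data.stabT.length, ∀ k : Fin 1782, ((Suz.π (z : Cfsg.Spor.Suz) k : Fin 1782) : ℕ) = act Data.stabT j k}

/-- The subgroup of the presented group. -/
noncomputable def Hs : Subgroup Cfsg.Spor.Suz := HsGen.map Suz.H.subtype

theorem stab_gen (j : ℕ) (hj : j < Data.stabT.length) :
    ∃ z : Suz.H, ∀ k : Fin 1782, ((Suz.π (z : Cfsg.Spor.Suz) k : Fin 1782) : ℕ) = act Data.stabT j k := by
  have hw : (Data.stabWords.all fun l => l.all fun x => decide (x < Suz.subTable.length)) = true := by decide +kernel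
  have hlen : Data.stabWords.length = Data.stabT.length := rfl
  simp only [List.all_eq_true, decide_eq_true_eq] at hw
  have hj' : j < Data.stabWords.length := hlen.symm ▸ hj
  obtain ⟨z, hz, hzk⟩ := realised_scan Suz.π Suz.sub_spec.1 Data.stabWords[j] (hw _ (List.getElem_mem hj'))
  refine ⟨⟨z, hz⟩, fun k => (hzk k).trans ?_⟩
  have h := allFrom_spec _ _ _ stabComp k (Nat.zero_le _) (by omega)
  have := Nat.eq_of_beq_eq_true (allFrom_spec _ _ _ h j (Nat.zero_le _) (by omega))
  rwa [List.getD_eq_getElem _ _ hj'] at this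

theorem Hs_spec : Realised Suz.π Hs Data.stabT ∧ Generated Suz.π Hs Data.stabT := by
  constructor
  · intro j hj
    obtain ⟨z, hz⟩ := stab_gen j hj
    exact ⟨z, ⟨z, Subgroup.subset_closure ⟨j, hj, hz⟩, rfl⟩, hz⟩
  · rw [Generated, Hs, HsGen, MonoidHom.map_closure]
    refine Subgroup.closure_mono ?_
    rintro _ ⟨z, ⟨j, hj, hz⟩, rfl⟩
    exact ⟨j, hj, hz⟩

theorem HsGen_fix {z : Suz.H} (hz : z ∈ HsGen) : S0.image (σ z) = S0 := by
  rw [HsGen] at hz
  induction hz using Subgroup.closure_induction with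
  | mem z hz =>
    obtain ⟨j, hj, hz⟩ := hz
    refine Finset.eq_of_subset_of_card_le (fun x hx => ?_) (by rw [Finset.card_image_of_injective _ (σ z).injective])
    obtain ⟨i, hi, rfl⟩ := Finset.mem_image.1 hx
    unfold S0 at hi ⊢
    generalize hm : Data.cands.getD 0 0 = m at hi ⊢
    replace hi := mem_maskSet.1 hi
    refine mem_maskSet.2 ?_
    have hj2 : j < 2 := hj
    have h := allFrom_spec _ _ _ (allLin_spec _ _ _ stabS0 j (Nat.zero_le _) (by omega)) i (Nat.zero_le _) (by omega)
    rw [hm, hi, Bool.not_true, Bool.false_or] at h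
    have e : act Data.stabT j (Data.embT.get 20 i) = (emb (σ z i) : Fin 1782).val := by
      rw [σ_spec, hz (emb i)]; rfl
    rw [e, show Data.posT.get 20 (emb (σ z i) : Fin 1782).val = (σ z i : Fin 416).val from
      (row416_spec (σ z i).2).2.1] at h
    exact h
  | one => rw [map_one, Equiv.Perm.coe_one, Finset.image_id]
  | mul a b _ _ ha hb => rw [map_mul, Equiv.Perm.coe_mul, ← Finset.image_image, hb, ha]
  | inv a _ ha =>
    conv_lhs => rw [← ha, Finset.image_image, ← Equiv.Perm.coe_mul, ← map_mul, inv_mul_cancel, map_one]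
    rw [Equiv.Perm.coe_one, Finset.image_id]

/-- The unique invariant set of size 320 on 1365 points. -/
theorem stab_rel (T : Set (Fin 1782)) (hT : ∀ y ∈ T, Suz.lab.get 20 (y : Fin 1782) = 1)
    (hinv : ∀ z : Suz.H, S0.image (σ z) = S0 → ∀ y ∈ T, Suz.π (z : Cfsg.Spor.Suz) y ∈ T) (hcard : T.ncard = 320) :
    T = {y : Fin 1782 | Data.stabLab.get 20 y = Data.cls320} := by
  classical
  have hlab : ∀ y : Fin 1782, Data.stabLab.get 20 y < 4 ↔ Suz.lab.get 20 y = 1 := by
    intro y
    have h := allFrom_spec _ _ _ stabB y (Nat.zero_le _) (by omega)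
    rw [beq_iff_eq] at h
    rw [← Nat.blt_eq, h, Nat.beq_eq]
  have hsame : ∀ y y' : Fin 1782, Data.stabLab.get 20 y = Data.stabLab.get 20 y' → Data.stabLab.get 20 y < 4 →
      y ∈ T → y' ∈ T := by
    intro y y' he hlt hy
    have hr := allLin_spec _ _ _ stabRootB _ (Nat.zero_le _) (by omega : Data.stabLab.get 20 y < 0 + 4)
    simp only [Bool.and_eq_true, Nat.blt_eq] at hr
    set c := Data.stabLab.get 20 y
    set r : Fin 1782 := ⟨Data.stabRoot.get 20 c, hr.1⟩
    have ho := orbit_class Suz.π Hs Data.stabT Hs_spec.1 Hs_spec.2 Data.stabLab Data.stabPar Data.stabRoot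
      (fun k hk => allFrom_spec _ _ _ stabRows k (Nat.zero_le _) (by omega)) r c hr.2 (Nat.beq_refl _)
    obtain ⟨_, ⟨w, hw, rfl⟩, hwy⟩ := (Set.ext_iff.1 ho y).2 rfl
    obtain ⟨_, ⟨w', hw', rfl⟩, hwy'⟩ := (Set.ext_iff.1 ho y').2 he.symm
    have hm := hinv (w' * w⁻¹) (HsGen_fix (mul_mem hw' (inv_mem hw))) y hy
    have e : Suz.π ((w' * w⁻¹ : Suz.H) : Cfsg.Spor.Suz) y = y' := by
      rw [← hwy, ← hwy']
      simp
    rwa [e] at hm
  set sel : ℕ := Nat.ofBits fun c : Fin 4 => decide (∃ y ∈ T, Data.stabLab.get 20 y = c)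
  have hsel : sel < 16 := Nat.ofBits_lt_two_pow _
  have hmem : ∀ y : Fin 1782, y ∈ T ↔ Data.stabLab.get 20 y < 4 ∧ sel.testBit (Data.stabLab.get 20 y) = true := by
    intro y
    constructor
    · intro hy
      have hlt := (hlab y).2 (hT y hy)
      exact ⟨hlt, by rw [Nat.testBit_ofBits, dif_pos hlt, decide_eq_true_eq]; exact ⟨y, hy, rfl⟩⟩
    · rintro ⟨hlt, hb⟩
      rw [Nat.testBit_ofBits, dif_pos hlt, decide_eq_true_eq] at hb
      obtain ⟨y', hy', he⟩ := hb
      exact hsame y' y he ((hlab y').2 (hT y' hy')) hy'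
  have hc : ∀ c, c < 4 → countLab Data.stabLab c 1782 =
      (Finset.univ.filter fun y : Fin 1782 => Data.stabLab.get 20 y = c).card := by
    intro c _
    rw [countLab, countIn_eq, ← Finset.card_image_of_injective _ Fin.val_injective]
    congr 1
    ext i
    simp only [Finset.mem_filter, Finset.mem_range, Finset.mem_image, Finset.mem_univ, true_and, zero_add]
    exact ⟨fun ⟨h1, h2⟩ => ⟨⟨i, h1⟩, h2, rfl⟩, fun ⟨k, h1, h2⟩ => h2 ▸ ⟨k.2, h1⟩⟩
  have hsum : ((bif Nat.testBit sel 0 then countLab Data.stabLab 0 1782 else 0) +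
      (bif Nat.testBit sel 1 then countLab Data.stabLab 1 1782 else 0) +
      (bif Nat.testBit sel 2 then countLab Data.stabLab 2 1782 else 0) +
      (bif Nat.testBit sel 3 then countLab Data.stabLab 3 1782 else 0)) = 320 := by
    rw [← hcard, Set.ncard_eq_toFinset_card', Finset.card_eq_sum_card_fiberwise
      (f := fun y : Fin 1782 => Data.stabLab.get 20 y) (t := Finset.range 4)
      (fun y hy => Finset.mem_range.2 ((hmem y).1 (Set.mem_toFinset.1 hy)).1)]
    simp only [Finset.sum_range_succ, Finset.sum_range_zero, zero_add]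
    have key : ∀ c, c < 4 → (bif Nat.testBit sel c then countLab Data.stabLab c 1782 else 0) =
        (T.toFinset.filter fun y : Fin 1782 => Data.stabLab.get 20 y = c).card := by
      intro c hc4
      cases hb : Nat.testBit sel c
      · rw [cond_false, eq_comm, Finset.card_eq_zero, Finset.filter_eq_empty_iff]
        intro y hy e
        have := ((hmem y).1 (Set.mem_toFinset.1 hy)).2
        rw [e, hb] at this
        exact absurd this (by simp)
      · rw [cond_true, hc c hc4]
        congr 1
        ext y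
        simp only [Finset.mem_filter, Finset.mem_univ, true_and, Set.mem_toFinset]
        exact ⟨fun e => ⟨(hmem y).2 ⟨e ▸ hc4, e ▸ hb⟩, e⟩, And.right⟩
    rw [key 0 (by norm_num), key 1 (by norm_num), key 2 (by norm_num), key 3 (by norm_num)]
  have h := allLin_spec _ _ _ stabSum sel (Nat.zero_le _) (by omega)
  rw [hsum, Nat.beq_refl, Bool.not_true, Bool.false_or] at h
  ext y
  rw [hmem]
  constructor
  · rintro ⟨hlt, hb⟩
    have := beq_iff_eq.1 (allLin_spec _ _ _ h _ (Nat.zero_le _) (by omega : Data.stabLab.get 20 y < 0 + 4))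
    rw [hb, eq_comm, Nat.beq_eq] at this
    exact this
  · intro (hy : Data.stabLab.get 20 y = Data.cls320)
    have h4 : Data.cls320 < 4 := by decide
    have := beq_iff_eq.1 (allLin_spec _ _ _ h _ (Nat.zero_le _) (by omega : Data.cls320 < 0 + 4))
    rw [Nat.beq_refl] at this
    exact ⟨hy ▸ h4, by rw [hy]; exact this⟩

end CfsgLib.SuzRecog
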