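import Cfsg.Agent.Lib.SuzRecog.Frame
import Cfsg.Agent.Lib.SuzRecog.Stab
import Cfsg.Agent.Lib.SuzRecog.Aut416

/-! The configuration is isomorphic to the one of the presented Suzuki group. -/

set_option autoImplicit false

namespace CfsgLib.SuzRecog

open CfsgLib.CosetEnum
open scoped Classical

universe u

variable {Ω : Type u} [Fintype Ω]

/-- The graph automorphisms. -/
def autOf {Δ : Type*} (Γ : SimpleGraph Δ) : Subgroup (Equiv.Perm Δ) where
  carrier := {π | ∀ x y, Γ.Adj (π x) (π y) ↔ Γ.Adj x y}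
  one_mem' := fun _ _ => Iff.rfl
  mul_mem' := fun {a b} ha hb x y => (ha (b x) (b y)).trans (hb x y)
  inv_mem' := fun {a} ha x y => by simpa using (ha (a⁻¹ x) (a⁻¹ y)).symm

namespace Frame

variable {G : Subgroup (Equiv.Perm Ω)} {a : Ω} {φ : MulAction.stabilizer G a ≃* Suz.H} (C : Frame G a φ)

theorem adj_f (i : Fin 416) : C.Γ.Adj a (C.f i) := (C.f_range _).1 ⟨i, rfl⟩

theorem fix (_C : Frame G a φ) (s : MulAction.stabilizer G a) : s • a = a := s.2

theorem sinv (s : MulAction.stabilizer G a) (x y : Ω) : C.Γ.Adj (s • x) (s • y) ↔ C.Γ.Adj x y :=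
  C.hG _ s.1.2 x y

theorem far_smul (s : MulAction.stabilizer G a) {x : Ω} (h : x ≠ a ∧ ¬ C.Γ.Adj a x) :
    s • x ≠ a ∧ ¬ C.Γ.Adj a (s • x) :=
  ⟨fun e => h.1 (smul_left_cancel s (e.trans (C.fix s).symm)), fun e => h.2 ((C.sinv s a x).1 (by rwa [C.fix s]))⟩

theorem nbrs_smul (s : MulAction.stabilizer G a) (x : Ω) :
    nbrs C.Γ C.f (s • x) = (nbrs C.Γ C.f x).image (σ (φ s)) := by
  ext i
  simp only [mem_nbrs, Finset.mem_image]
  constructor
  · intro h
    refine ⟨(σ (φ s))⁻¹ i, ?_, by simp⟩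
    rw [← C.sinv s, C.f_eq]
    simpa using h
  · rintro ⟨j, hj, rfl⟩
    rw [← C.f_eq, C.sinv]; exact hj

theorem image_far : nbrs C.Γ C.f '' {x | x ≠ a ∧ ¬ C.Γ.Adj a x} = orbitSets S0 := by
  ext T
  constructor
  · rintro ⟨x, hx, rfl⟩
    obtain ⟨s, rfl⟩ := C.orbitB x hx.1 hx.2
    exact ⟨φ s, by rw [C.nbrs_smul, C.c_nbrs]⟩
  · rintro ⟨z, rfl⟩
    exact ⟨φ.symm z • C.c, C.far_smul _ ⟨C.c_ne, C.c_nadj⟩, by rw [C.nbrs_smul, C.c_nbrs, φ.apply_symm_apply]⟩

theorem nb_inj : Set.InjOn (nbrs C.Γ C.f) {x | x ≠ a ∧ ¬ C.Γ.Adj a x} :=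
  (Set.ncard_image_iff (Set.toFinite _)).1 (le_antisymm (Set.ncard_image_le (Set.toFinite _))
    (by
      rw [C.image_far, C.cardB]
      refine orbit_S0_dvd ((MulAction.stabilizer (MulAction.stabilizer G a) C.c).map (φ : MulAction.stabilizer G a →* Suz.H)) ?_ ?_
      · rw [Subgroup.index_map_equiv, MulAction.index_stabilizer, ← C.cardB]
        congr 1
        ext x
        exact ⟨fun ⟨s, hs⟩ => hs ▸ C.far_smul s ⟨C.c_ne, C.c_nadj⟩, fun h => C.orbitB x h.1 h.2⟩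
      · rintro _ ⟨t, ht, rfl⟩
        have h := C.nbrs_smul t C.c
        rw [show t • C.c = C.c from ht, C.c_nbrs] at h
        exact h.symm))

theorem trichotomy (x : Ω) : x = a ∨ (∃ i, C.f i = x) ∨ (x ≠ a ∧ ¬ C.Γ.Adj a x) := by
  by_cases h : x = a
  · exact Or.inl h
  by_cases h' : C.Γ.Adj a x
  · exact Or.inr (Or.inl ((C.f_range x).2 h'))
  · exact Or.inr (Or.inr ⟨h, h'⟩)

theorem card_far_nbrs : {y | (y ≠ a ∧ ¬ C.Γ.Adj a y) ∧ C.Γ.Adj C.c y}.ncard = 320 := by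
  have h := C.deg C.c
  have e : {y | C.Γ.Adj C.c y} = C.f '' (S0 : Set (Fin 416)) ∪ {y | (y ≠ a ∧ ¬ C.Γ.Adj a y) ∧ C.Γ.Adj C.c y} := by
    ext y
    constructor
    · intro (hy : C.Γ.Adj C.c y)
      rcases C.trichotomy y with rfl | ⟨i, rfl⟩ | h'
      · exact absurd hy.symm C.c_nadj
      · left
        exact ⟨i, by rw [← C.c_nbrs]; exact mem_nbrs.2 hy, rfl⟩
      · exact Or.inr ⟨h', hy⟩
    · rintro (⟨i, hi, rfl⟩ | hy)
      · rw [← C.c_nbrs] at hi
        exact mem_nbrs.1 hi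
      · exact hy.2
  have hd : Disjoint (C.f '' (S0 : Set (Fin 416))) {y | (y ≠ a ∧ ¬ C.Γ.Adj a y) ∧ C.Γ.Adj C.c y} :=
    Set.disjoint_left.2 fun y ⟨i, _, hi⟩ h' => h'.1.2 (hi ▸ C.adj_f i)
  rw [e, Set.ncard_union_eq hd (Set.toFinite _) (Set.toFinite _), Set.ncard_image_of_injective _ C.f_inj,
    Set.ncard_coe_finset, C.card_S0] at h
  omega

theorem fix_c (z : Suz.H) (h : S0.image (σ z) = S0) : φ.symm z • C.c = C.c :=
  C.nb_inj (C.far_smul _ ⟨C.c_ne, C.c_nadj⟩) ⟨C.c_ne, C.c_nadj⟩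
    (by rw [C.nbrs_smul, C.c_nbrs, φ.apply_symm_apply, h])

theorem card_aut_le : Nat.card (autOf C.Γ) ≤ Fintype.card Ω * Nat.card autA := by
  have h := Subgroup.card_mul_index (MulAction.stabilizer (autOf C.Γ) a)
  rw [MulAction.index_stabilizer] at h
  have o : (MulAction.orbit (autOf C.Γ) a).ncard ≤ Fintype.card Ω := by
    rw [← Nat.card_eq_fintype_card]; exact Set.ncard_le_card _
  have hex : ∀ (π : MulAction.stabilizer (autOf C.Γ) a) (i : Fin 416), ∃ j, C.f j = π.1.1 (C.f i) := by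
    intro π i
    refine (C.f_range _).2 ?_
    have := (π.1.2 a (C.f i)).2 (C.adj_f i)
    rwa [show π.1.1 a = a from π.2] at this
  let res : MulAction.stabilizer (autOf C.Γ) a → Equiv.Perm (Fin 416) := fun π =>
    Equiv.ofBijective (fun i => (hex π i).choose) (Finite.injective_iff_bijective.1 fun i j e =>
      C.f_inj (π.1.1.injective (by
        rw [← (hex π i).choose_spec, ← (hex π j).choose_spec]; exact congrArg C.f e)))
  have hres : ∀ π i, C.f (res π i) = π.1.1 (C.f i) := fun π i => (hex π i).choose_spec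
  have hmem : ∀ π, res π ∈ autA := fun π i j => by
    rw [← C.f_adj, ← C.f_adj, hres, hres]
    exact π.1.2 _ _
  have hinj : Function.Injective fun π => (⟨res π, hmem π⟩ : autA) := by
    intro π π' e
    have e' : res π = res π' := congrArg Subtype.val e
    have hA : ∀ i, π.1.1 (C.f i) = π'.1.1 (C.f i) := fun i => by rw [← hres, ← hres, e']
    refine Subtype.ext (Subtype.ext (Equiv.ext fun x => ?_))
    have hπ : π.1.1 a = a := π.2
    have hπ' : π'.1.1 a = a := π'.2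
    rcases C.trichotomy x with rfl | ⟨i, rfl⟩ | ⟨hx1, hx2⟩
    · exact hπ.trans hπ'.symm
    · exact hA i
    · refine C.nb_inj ⟨fun e => hx1 (π.1.1.injective (e.trans hπ.symm)), fun e => hx2 ((π.1.2 a x).1 (by rwa [hπ]))⟩
        ⟨fun e => hx1 (π'.1.1.injective (e.trans hπ'.symm)), fun e => hx2 ((π'.1.2 a x).1 (by rwa [hπ']))⟩ ?_
      ext i
      obtain ⟨j, rfl⟩ : ∃ j, res π j = i := (res π).surjective i
      rw [mem_nbrs, mem_nbrs, hres, π.1.2 x (C.f j), hA, π'.1.2 x (C.f j)]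
  have hs : Nat.card (MulAction.stabilizer (autOf C.Γ) a) ≤ Nat.card autA := Nat.card_le_card_of_injective _ hinj
  rw [← h, mul_comm (Nat.card _) _]
  exact Nat.mul_le_mul o hs

end Frame

/-- The image of the presented group. -/
noncomputable abbrev Sm : Subgroup (Equiv.Perm (Fin 1782)) := Suz.π.range

/-- The first point. -/
def pt0 : Fin 1782 := 0

theorem stab_pi_zero {g : Cfsg.Spor.Suz} : Suz.π g pt0 = pt0 ↔ g ∈ Suz.H := by
  refine ⟨fun h => ?_, fun h => Suz.sub_fix (by omega) g h⟩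
  rcases Suz.maximal.1 (Suz.H ⊔ Subgroup.zpowers g) le_sup_left with e | e
  · exact e ▸ le_sup_right (a := Suz.H) (Subgroup.mem_zpowers g)
  · exfalso
    obtain ⟨z, hz⟩ := Suz.transitive (by omega) (1 : Fin 1782)
    have hle : Suz.H ⊔ Subgroup.zpowers g ≤ (MulAction.stabilizer (Equiv.Perm (Fin 1782)) pt0).comap Suz.π :=
      sup_le (fun w hw => (Suz.sub_fix (by omega) w hw)) (Subgroup.zpowers_le.2 h)
    rw [e] at hle
    have : Suz.π z pt0 = pt0 := hle (Subgroup.mem_top z)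
    exact absurd (hz.symm.trans this) (by decide)

instance : MulAction.IsPretransitive Sm (Fin 1782) := ⟨fun x y => by
  obtain ⟨z, hz⟩ := Suz.transitive (by omega) x
  obtain ⟨w, hw⟩ := Suz.transitive (by omega) y
  refine ⟨⟨Suz.π (w * z⁻¹), _, rfl⟩, ?_⟩
  show Suz.π (w * z⁻¹) x = y
  rw [← hw, ← hz, map_mul, map_inv, Equiv.Perm.mul_apply, Equiv.Perm.inv_def, Equiv.symm_apply_apply]⟩

/-- The point stabiliser of the image. -/
noncomputable def stabToSm : Suz.H →* MulAction.stabilizer Sm pt0 where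
  toFun z := ⟨⟨Suz.π (z : Cfsg.Spor.Suz), (z : Cfsg.Spor.Suz), rfl⟩, Suz.sub_fix (by omega) z z.2⟩
  map_one' := Subtype.ext (Subtype.ext (map_one Suz.π))
  map_mul' z w := Subtype.ext (Subtype.ext (map_mul Suz.π (z : Cfsg.Spor.Suz) (w : Cfsg.Spor.Suz)))

theorem stabToSm_bijective : Function.Bijective stabToSm := by
  constructor
  · exact fun z w e => Subtype.ext (Suz.injective (congrArg (fun t : MulAction.stabilizer Sm pt0 => (t.1 : Equiv.Perm (Fin 1782))) e))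
  · rintro ⟨⟨_, g, rfl⟩, h⟩
    exact ⟨⟨g, stab_pi_zero.1 h⟩, rfl⟩

/-- The stabiliser is the subgroup `H`. -/
noncomputable def phiSm : MulAction.stabilizer Sm pt0 ≃* Suz.H := (MulEquiv.ofBijective stabToSm stabToSm_bijective).symm

theorem phiSm_symm (z : Suz.H) (x : Fin 1782) : phiSm.symm z • x = Suz.π (z : Cfsg.Spor.Suz) x := rfl

theorem orbit_Sm (r : Fin 1782) (c N : ℕ) (h1 : Nat.beq (Suz.lab.get 20 r) c = true)
    (h2 : Nat.beq (Suz.root.get 20 c) r = true) (h3 : Nat.beq (countLab Suz.lab c 1782) N = true) :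
    (MulAction.orbit (MulAction.stabilizer Sm pt0) r).ncard = N := by
  rw [← orbit_class_ncard Suz.π Suz.H Suz.subTable Suz.sub_spec.1 Suz.sub_spec.2 Suz.lab Suz.orbPar Suz.root
    Suz.orbit_ok r c h1 h2 N h3]
  congr 1
  ext k
  constructor
  · rintro ⟨s, rfl⟩
    exact ⟨(phiSm s : Suz.H), (phiSm s).2, by rw [← phiSm_symm, phiSm.symm_apply_apply]⟩
  · rintro ⟨w, hw, rfl⟩
    exact ⟨phiSm.symm ⟨w, hw⟩, rfl⟩

theorem lab_checks : (Nat.blt (Suz.root.get 20 1) 1782 && Nat.blt (Suz.root.get 20 2) 1782 &&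
    Nat.beq (Suz.lab.get 20 (Suz.root.get 20 1)) 1 && Nat.beq (Suz.lab.get 20 (Suz.root.get 20 2)) 2 &&
    Nat.beq (countLab Suz.lab 1 1782) 1365 && Nat.beq (countLab Suz.lab 2 1782) 416 &&
    Nat.beq (countLab Suz.lab 0 1782) 1 && allFrom (fun k => Nat.blt (Suz.lab.get 20 k) 3) 1782 0) = true := by
  decide +kernel

/-- The configuration of the presented group. -/
theorem exists_frame_model : Nonempty (Frame Sm pt0 phiSm) := by
  have h := lab_checks
  simp only [Bool.and_eq_true, Nat.blt_eq] at h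
  exact exists_frame (Fintype.card_fin _) Sm pt0 ⟨_, h.1.1.1.1.1.1.2⟩ ⟨_, h.1.1.1.1.1.1.1⟩ phiSm
    (orbit_Sm _ 2 416 h.1.1.1.1.2 (Nat.beq_refl _) h.1.1.2)
    (orbit_Sm _ 1 1365 h.1.1.1.1.1.2 (Nat.beq_refl _) h.1.1.1.2)

theorem far_lab (C : Frame Sm pt0 phiSm) {y : Fin 1782} (hy : y ≠ pt0 ∧ ¬ C.Γ.Adj pt0 y) :
    Suz.lab.get 20 (y : Fin 1782) = 1 := by
  have h := lab_checks
  simp only [Bool.and_eq_true, Nat.beq_eq] at h
  have hlt := allFrom_spec _ _ _ h.2 y (Nat.zero_le _) (by omega)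
  simp only [Nat.blt_eq] at hlt
  have hsub : {x | x ≠ pt0 ∧ ¬ C.Γ.Adj pt0 x} ⊆ {k : Fin 1782 | Suz.lab.get 20 k = Suz.lab.get 20 y} := by
    intro x hx
    obtain ⟨s, rfl⟩ := C.orbitB x hx.1 hx.2
    obtain ⟨t, ht⟩ := C.orbitB y hy.1 hy.2
    show Suz.lab.get 20 (s • C.c : Fin 1782) = _
    rw [← ht, ← phiSm.symm_apply_apply s, ← phiSm.symm_apply_apply t, phiSm_symm, phiSm_symm, lab_smul, lab_smul]
  have hcard := Set.ncard_le_ncard hsub
  rw [C.cardB] at hcard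
  have hc : {k : Fin 1782 | Suz.lab.get 20 k = Suz.lab.get 20 y}.ncard = countLab Suz.lab (Suz.lab.get 20 y) 1782 := by
    rw [countLab, countIn_eq, ← Set.ncard_image_of_injective _ Fin.val_injective, ← Set.ncard_coe_finset]
    congr 1
    ext i
    simp only [Set.mem_image, Set.mem_ofPred_eq, Finset.coe_filter, Finset.mem_range, zero_add]
    exact ⟨by rintro ⟨k, hk, rfl⟩; exact ⟨k.2, hk⟩, fun ⟨hi, h⟩ => ⟨⟨i, hi⟩, h, rfl⟩⟩
  rw [hc] at hcard
  interval_cases hv : Suz.lab.get 20 (y : Fin 1782)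
  · rw [h.1.2] at hcard; omega
  · rfl
  · rw [h.1.1.2] at hcard; omega

section Iso

variable {G : Subgroup (Equiv.Perm Ω)} {a : Ω} {φ : MulAction.stabilizer G a ≃* Suz.H} (C : Frame G a φ)
  (C' : Frame Sm pt0 phiSm)

theorem exists_iso (hΩ : Fintype.card Ω = 1782) : ∃ ψ : Ω ≃ Fin 1782, ψ a = pt0 ∧
    (∀ (s : MulAction.stabilizer G a) x, ψ (s • x) = Suz.π ((φ s : Suz.H) : Cfsg.Spor.Suz) (ψ x)) ∧
    ∀ x y, C'.Γ.Adj (ψ x) (ψ y) ↔ C.Γ.Adj x y := by
  have hB : ∀ x, x ≠ a ∧ ¬ C.Γ.Adj a x → ∃ y, (y ≠ pt0 ∧ ¬ C'.Γ.Adj pt0 y) ∧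
      nbrs C'.Γ C'.f y = nbrs C.Γ C.f x := fun x h => by
    have hm : nbrs C.Γ C.f x ∈ orbitSets S0 := C.image_far ▸ ⟨x, h, rfl⟩
    rw [← C'.image_far] at hm
    exact hm
  let m : Ω → Fin 1782 := fun x => if h : x = a then pt0 else if h' : C.Γ.Adj a x then
    C'.f ((C.f_range x).2 h').choose else (hB x ⟨h, h'⟩).choose
  have m0 : m a = pt0 := dif_pos rfl
  have m1 : ∀ i, m (C.f i) = C'.f i := fun i => by
    have ha : C.f i ≠ a := (C.adj_f i).ne.symm
    simp only [m, dif_neg ha, dif_pos (C.adj_f i)]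
    exact congrArg C'.f (C.f_inj ((C.f_range _).2 (C.adj_f i)).choose_spec)
  have m2 : ∀ x, x ≠ a ∧ ¬ C.Γ.Adj a x → (m x ≠ pt0 ∧ ¬ C'.Γ.Adj pt0 (m x)) ∧
      nbrs C'.Γ C'.f (m x) = nbrs C.Γ C.f x := fun x h => by
    simp only [m, dif_neg h.1, dif_neg h.2]
    exact (hB x h).choose_spec
  have heq : ∀ (s : MulAction.stabilizer G a) x, m (s • x) = phiSm.symm (φ s) • m x := by
    intro s x
    rcases C.trichotomy x with rfl | ⟨i, rfl⟩ | hx
    · rw [C.fix s, m0]; exact (C'.fix _).symm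
    · rw [C.f_eq, m1, m1, C'.f_eq, phiSm.apply_symm_apply]
    · obtain ⟨h1, h2⟩ := m2 x hx
      obtain ⟨h3, h4⟩ := m2 _ (C.far_smul s hx)
      refine C'.nb_inj h3 (C'.far_smul _ h1) ?_
      rw [h4, C'.nbrs_smul, h2, phiSm.apply_symm_apply, C.nbrs_smul]
  have hinj : Function.Injective m := by
    intro x y e
    rcases C.trichotomy x with hx | ⟨i, hi⟩ | hx <;> rcases C.trichotomy y with hy | ⟨l, hl⟩ | hy
    · exact hx.trans hy.symm
    · rw [hx, m0, ← hl, m1] at e; exact absurd e (C'.adj_f l).ne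
    · rw [hx, m0] at e; exact absurd e.symm (m2 y hy).1.1
    · rw [hy, m0, ← hi, m1] at e; exact absurd e (C'.adj_f i).ne.symm
    · rw [← hi, ← hl, m1, m1] at e; rw [← hi, ← hl, C'.f_inj e]
    · rw [← hi, m1] at e; exact absurd (e ▸ C'.adj_f i) (m2 y hy).1.2
    · rw [hy, m0] at e; exact absurd e (m2 x hx).1.1
    · rw [← hl, m1] at e; exact absurd (e.symm ▸ C'.adj_f l) (m2 x hx).1.2
    · exact C.nb_inj hx hy (by rw [← (m2 x hx).2, e, (m2 y hy).2])
  let ψ := Equiv.ofBijective m ((Fintype.bijective_iff_injective_and_card m).2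
    ⟨hinj, hΩ.trans (Fintype.card_fin _).symm⟩)
  have hfb : ∀ x, x ≠ a ∧ ¬ C.Γ.Adj a x → ∀ i, C'.Γ.Adj (m x) (C'.f i) ↔ C.Γ.Adj x (C.f i) := by
    intro x h i
    rw [← mem_nbrs, (m2 x h).2, mem_nbrs]
  have hc : m C.c = C'.c :=
    C'.nb_inj (m2 _ ⟨C.c_ne, C.c_nadj⟩).1 ⟨C'.c_ne, C'.c_nadj⟩ (by rw [(m2 _ ⟨C.c_ne, C.c_nadj⟩).2, C.c_nbrs, C'.c_nbrs])
  set T : Set (Fin 1782) := m '' {y | (y ≠ a ∧ ¬ C.Γ.Adj a y) ∧ C.Γ.Adj C.c y} with hT
  set T' : Set (Fin 1782) := {y | (y ≠ pt0 ∧ ¬ C'.Γ.Adj pt0 y) ∧ C'.Γ.Adj C'.c y} with hT'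
  have e1 : T = {y : Fin 1782 | Data.stabLab.get 20 y = Data.cls320} := by
    refine stab_rel T ?_ ?_ (by rw [hT, Set.ncard_image_of_injective _ hinj, C.card_far_nbrs])
    · rintro _ ⟨y, hy, rfl⟩
      exact far_lab C' (m2 y hy.1).1
    · rintro z hz _ ⟨y, hy, rfl⟩
      refine ⟨φ.symm z • y, ⟨C.far_smul _ hy.1, ?_⟩, by rw [heq, φ.apply_symm_apply]; rfl⟩
      rw [← C.fix_c z hz, C.sinv]
      exact hy.2
  have e2 : T' = {y : Fin 1782 | Data.stabLab.get 20 y = Data.cls320} := by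
    refine stab_rel T' (fun y hy => far_lab C' hy.1) (fun z hz y hy => ?_) C'.card_far_nbrs
    rw [← phiSm_symm]
    refine ⟨C'.far_smul _ hy.1, ?_⟩
    rw [← C'.fix_c z hz, C'.sinv]
    exact hy.2
  have hBB : ∀ y, y ≠ a ∧ ¬ C.Γ.Adj a y → (C'.Γ.Adj C'.c (m y) ↔ C.Γ.Adj C.c y) := by
    intro y hy
    have h := Set.ext_iff.1 (e1.trans e2.symm) (m y)
    rw [hT, hinj.mem_set_image] at h
    exact ⟨fun h' => (h.2 ⟨(m2 y hy).1, h'⟩).2, fun h' => (h.1 ⟨hy, h'⟩).2⟩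
  refine ⟨ψ, m0, heq, fun x y => ?_⟩
  show C'.Γ.Adj (m x) (m y) ↔ C.Γ.Adj x y
  rcases C.trichotomy x with hx | ⟨i, hi⟩ | hx <;> rcases C.trichotomy y with hy | ⟨l, hl⟩ | hy
  · rw [hx, hy]; simp
  · rw [hx, ← hl, m0, m1]; exact iff_of_true (C'.adj_f l) (C.adj_f l)
  · rw [hx, m0]; exact iff_of_false (m2 y hy).1.2 hy.2
  · rw [hy, ← hi, m0, m1]; exact iff_of_true (C'.adj_f i).symm (C.adj_f i).symm
  · rw [← hi, ← hl, m1, m1, C'.f_adj, C.f_adj]
  · rw [← hi, m1, C'.Γ.adj_comm, hfb y hy, C.Γ.adj_comm]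
  · rw [hy, m0]; exact iff_of_false (fun h => (m2 x hx).1.2 h.symm) (fun h => hx.2 h.symm)
  · rw [← hl, m1, hfb x hx]
  · obtain ⟨s, rfl⟩ := C.orbitB x hx.1 hx.2
    have ey : y = s • (s⁻¹ • y) := (smul_inv_smul s y).symm
    rw [ey, heq, heq s, hc, C'.sinv, C.sinv]
    exact hBB _ (C.far_smul _ hy)

include C C' in
theorem nonempty_equiv [MulAction.IsPretransitive G Ω] (hΩ : Fintype.card Ω = 1782) :
    Nonempty (G ≃* Cfsg.Spor.Suz) := by
  obtain ⟨ψ, hψa, hψs, hψ⟩ := exists_iso C C' hΩ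
  set κ := ψ.permCongrHom.toMonoidHom with hκ
  have hκi : Function.Injective κ := ψ.permCongrHom.injective
  have happ : ∀ (π : Equiv.Perm Ω) (y : Fin 1782), κ π y = ψ (π (ψ.symm y)) := fun π y => by
    simp [hκ, Equiv.permCongr_apply]
  set K := G.map κ with hK
  have : Finite Suz.H := Nat.finite_of_card_ne_zero (by rw [Suz.card_H]; norm_num)
  have : Finite Cfsg.Spor.Suz := Suz.finite
  have cG : Nat.card G = 1782 * 251596800 := by
    have h := Subgroup.card_mul_index (MulAction.stabilizer G a)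
    rw [MulAction.index_stabilizer_of_transitive, Nat.card_congr φ.toEquiv, Suz.card_H,
      Nat.card_eq_fintype_card (α := Ω), hΩ] at h
    omega
  have cK : Nat.card K = 1782 * 251596800 := by rw [hK, Subgroup.card_map_of_injective hκi, cG]
  have cS : Nat.card Sm = 1782 * 251596800 := by
    have h := Subgroup.card_mul_index (MulAction.stabilizer Sm pt0)
    rw [MulAction.index_stabilizer_of_transitive, Nat.card_congr phiSm.toEquiv, Suz.card_H, Nat.card_fin] at h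
    omega
  have hKaut : K ≤ autOf C'.Γ := by
    rintro _ ⟨g, hg, rfl⟩ x y
    rw [happ, happ, hψ, C.hG g hg, ← hψ, Equiv.apply_symm_apply, Equiv.apply_symm_apply]
  have hSaut : Sm ≤ autOf C'.Γ := fun g hg => C'.hG g hg
  have hHK : Suz.H ≤ K.comap Suz.π := by
    intro w hw
    set s := φ.symm ⟨w, hw⟩ with hs
    refine ⟨(s.1 : Equiv.Perm Ω), s.1.2, Equiv.ext fun y => ?_⟩
    rw [happ]
    show ψ (s • ψ.symm y) = _
    rw [hψs, hs, φ.apply_symm_apply, Equiv.apply_symm_apply]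
  have hKS : K = Sm := by
    rcases Suz.maximal.1 _ hHK with h | h
    · exfalso
      set Hm : Subgroup (Equiv.Perm (Fin 1782)) := Suz.H.map Suz.π with hHm
      have hmeet : ∀ w ∈ K, w ∈ Sm → w ∈ Hm := by
        rintro _ hw ⟨g, rfl⟩
        exact ⟨g, (h ▸ hw : g ∈ Suz.H), rfl⟩
      set D := Hm.subgroupOf K with hD
      have hDidx : D.index = 1782 := by
        have hle : Hm ≤ K := by rintro _ ⟨w, hw, rfl⟩; exact hHK hw
        have h' := D.card_mul_index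
        rw [Nat.card_congr (Subgroup.subgroupOfEquivOfLe hle).toEquiv, hHm,
          Subgroup.card_map_of_injective Suz.injective, Suz.card_H, cK] at h'
        omega
      have hbig : Nat.card ((K ⧸ D) × Sm) ≤ Nat.card (autOf C'.Γ) := by
        refine Nat.card_le_card_of_injective
          (fun p => (⟨(p.1.out : K).1 * p.2.1, mul_mem (hKaut p.1.out.2) (hSaut p.2.2)⟩ : autOf C'.Γ)) ?_
        rintro ⟨q, s⟩ ⟨q', s'⟩ e
        have e' : (q.out : K).1 * s.1 = (q'.out : K).1 * s'.1 := congrArg Subtype.val e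
        have e2 : ((q'.out : K).1)⁻¹ * (q.out : K).1 = s'.1 * s.1⁻¹ := by
          rw [eq_mul_inv_iff_mul_eq, mul_assoc, e', inv_mul_cancel_left]
        have hq : (q'.out⁻¹ * q.out : K) ∈ D := by
          show ((q'.out⁻¹ * q.out : K) : Equiv.Perm (Fin 1782)) ∈ Hm
          refine hmeet _ (q'.out⁻¹ * q.out : K).2 ?_
          rw [Subgroup.coe_mul, Subgroup.coe_inv, e2]
          exact mul_mem s'.2 (inv_mem s.2)
        have hqq : q' = q := by
          have := QuotientGroup.eq.2 hq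
          rwa [QuotientGroup.out_eq', QuotientGroup.out_eq'] at this
        subst hqq
        exact Prod.ext rfl (Subtype.ext (mul_left_cancel e'))
      rw [Nat.card_prod, ← Subgroup.index, hDidx, cS] at hbig
      have hb := hbig.trans C'.card_aut_le
      rw [Fintype.card_fin] at hb
      have := card_autA_lt
      omega
    · refine (Subgroup.eq_of_le_of_card_ge ?_ (by rw [cK, cS])).symm
      rintro _ ⟨g, rfl⟩
      exact (h.symm ▸ Subgroup.mem_top g : g ∈ K.comap Suz.π)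
  exact ⟨((Subgroup.equivMapOfInjective G κ hκi).trans (MulEquiv.subgroupCongr hKS)).trans
    (MonoidHom.ofInjective Suz.injective).symm⟩

end Iso

end CfsgLib.SuzRecog
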